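import Cfsg.Agent.Lib.Known.SubfieldMax.Setting

/-!
# Coordinates under the action of a closed set, coordinates of orbit elements

The subgroup of a closed set `S` acting on that of a closed set `A` moves a multiple of the product
of the coordinates at `K` and at `r` to the coordinate at `k`.
-/

set_option autoImplicit false
set_option synthInstance.maxSize 4000

namespace CfsgLib.Chev.SubfieldMax

open Cfsg.Lie CfsgLib.Chev.Table CfsgLib.Chev.EvenInvol CfsgLib.Chev.FixedPoints

universe v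

/-- The set `S` acts on `A`, fixing the coordinate at `r` and moving `N` times the product of those
at `K` and at `r` to `k`. -/
def actB (T : Tab) (S A : List ℕ) (K r k : ℕ) (N : ℤ) : Bool :=
  indB T S K && indB T A r && indB T A k &&
    S.all fun l => trB T A l r r 0 && trB T A l r k (bif Nat.beq l K then N else 0)

section

variable {D : ChevalleyDatum} {T : Tab} {F : Type v} [Field F] (hT : TabOK D T) (hC : CommF.{v} D)
include hT hC

theorem IsCh.act {S A : List ℕ} {K r k : ℕ} {N : ℤ} (h : actB T S A K r k N = true)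
    {g : GL D.Idx F} {a : F} (hg : IsCh D S K g a) {x : GL D.Idx F} {b e : F}
    (hxr : IsCh D A r x b) (hxk : IsCh D A k x e) :
    IsCh D A r (g * x * g⁻¹) b ∧ IsCh D A k (g * x * g⁻¹) (e + (N : F) * a * b) := by
  simp only [actB, Bool.and_eq_true, List.all_eq_true] at h
  obtain ⟨⟨⟨hK, hr⟩, hk⟩, hS⟩ := h
  obtain ⟨-, hpos⟩ := pos_of_ind hT hC hK
  suffices H : ∀ g ∈ rootClosure D F (· ∈ S), ∃ a, IsCh D S K g a ∧ ∀ x b e, IsCh D A r x b →
      IsCh D A k x e → IsCh D A r (g * x * g⁻¹) b ∧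
        IsCh D A k (g * x * g⁻¹) (e + (N : F) * a * b) by
    obtain ⟨a', ha', H⟩ := H g (hg.mem hT hC hK)
    rw [hg.unique hT hC hK ha']
    exact H x b e hxr hxk
  have gen : ∀ l ∈ S, ∀ c : F, ∀ x b e, IsCh D A r x b → IsCh D A k x e →
      IsCh D A r (xU D l c * x * (xU D l c)⁻¹) b ∧ IsCh D A k (xU D l c * x * (xU D l c)⁻¹)
        (e + (N : F) * (if l = K then c else 0) * b) := by
    intro l hl c x b e h1 h2
    have h3 := IsCh.conj hT hC hr hr (hS l hl).1 c h1 h1
    have h4 := IsCh.conj hT hC hr hk (hS l hl).2 c h1 h2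
    rw [Int.cast_zero, zero_mul, zero_mul, add_zero] at h3
    refine ⟨h3, ?_⟩
    by_cases e' : l = K
    · simpa [e'] using h4
    · simpa [e', show Nat.beq l K = false from
        Bool.eq_false_iff.2 fun e'' => e' (Nat.eq_of_beq_eq_true e'')] using h4
  intro g hg
  induction hg using Subgroup.closure_induction_left with
  | one => exact ⟨0, IsCh.zero hT hC hK (Subgroup.one_mem _), fun x b e h1 h2 => by
      simp only [one_mul, inv_one, mul_one, mul_zero, zero_mul, add_zero]; exact ⟨h1, h2⟩⟩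
  | mul_left y hy z _ ih =>
    obtain ⟨l, c, -, hl, rfl⟩ := hy
    obtain ⟨a, ha, H⟩ := ih
    refine ⟨_, (IsCh.gen hT hC hK hl c).mul hT hC hK ha, fun x b e h1 h2 => ?_⟩
    obtain ⟨h5, h6⟩ := H x b e h1 h2
    obtain ⟨h7, h8⟩ := gen l hl c _ _ _ h5 h6
    rw [show xU D l c * z * x * (xU D l c * z)⁻¹ = xU D l c * (z * x * z⁻¹) * (xU D l c)⁻¹ by group]
    refine ⟨h7, ?_⟩
    convert h8 using 1
    ring
  | inv_mul_cancel y hy z _ ih =>
    obtain ⟨l, c, hlN, hl, rfl⟩ := hy
    obtain ⟨a, ha, H⟩ := ih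
    rw [hT.facts.xU_inv hlN]
    refine ⟨_, (IsCh.gen hT hC hK hl (-c)).mul hT hC hK ha, fun x b e h1 h2 => ?_⟩
    obtain ⟨h5, h6⟩ := H x b e h1 h2
    obtain ⟨h7, h8⟩ := gen l hl (-c) _ _ _ h5 h6
    rw [show xU D l (-c) * z * x * (xU D l (-c) * z)⁻¹ =
      xU D l (-c) * (z * x * z⁻¹) * (xU D l (-c))⁻¹ by group]
    refine ⟨h7, ?_⟩
    convert h8 using 1
    ring

omit hC in
/-- A monomial element carries coordinates. -/
theorem IsCh.perm {S S' : List ℕ} {r : ℕ} {g : GL D.Idx F} (π : ℕ → ℕ) (c : ℕ → F)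
    (hπ : ∀ s ∈ S, π s < D.nroots ∧ π s ∈ S' ∧ (s ≠ r → π s ≠ π r) ∧
      ∀ t : F, g * xU D s t * g⁻¹ = xU D (π s) (c s * t)) (hr : r ∈ S) {x : GL D.Idx F} {t : F}
    (hx : IsCh D S r x t) : IsCh D S' (π r) (g * x * g⁻¹) (c r * t) := by
  have _ := hT
  have h1 := conj_closure (g := g) (H := rootClosure D F fun s => s ∈ S' ∧ s ≠ π r) ?_ hx
  · rw [IsCh, ← (hπ r hr).2.2.2]
    rwa [show g * ((xU D r t)⁻¹ * x) * g⁻¹ = (g * xU D r t * g⁻¹)⁻¹ * (g * x * g⁻¹) by group] at h1
  rintro y ⟨s, u, -, ⟨hs, hne⟩, rfl⟩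
  obtain ⟨h2, h3, h4, h5⟩ := hπ s hs
  rw [h5]
  exact xU_mem_rootClosure h2 ⟨h3, h4 hne⟩ _

omit hC in
/-- A coordinate in a smaller set. -/
theorem IsCh.mono {S S' : List ℕ} {r : ℕ} (h : ∀ s ∈ S, s ∈ S') {x : GL D.Idx F} {t : F}
    (hx : IsCh D S r x t) : IsCh D S' r x t := by
  have _ := hT
  exact rootClosure_mono (fun s _ hs => ⟨h s hs.1, hs.2⟩) hx

end

variable {D : ChevalleyDatum} {T : Tab} {P : TwPar} {spec : List (List ℕ × List ℕ)}
  {K : Type v} [Field K] {f : K →+* K} {σ : ↥(D.group K) →* GL D.Idx K}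
  {G : Subgroup (GL D.Idx K)}

/-- The parameter of the orbit element at the root `i` of the orbit. -/
def crd (P : TwPar) (f : K →+* K) (r : ℕ) (a : K) (i : ℕ) : K :=
  if i = r then a else if i = P.rho r then P.coef f r a
    else P.coef f (P.rho r) (P.coef f r a)

theorem mem_orbR_self (P : TwPar) (r : ℕ) : r ∈ orbR P r := by
  unfold orbR; split_ifs <;> simp

variable (S : Setting T P spec f σ G)
include S

theorem Setting.orbX_ch {r : ℕ} (ho : orbitB T P r = true) {L : List ℕ}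
    (hL : ∀ j ∈ orbR P r, j ∈ L) {i : ℕ} (hi : i ∈ orbR P r) (hind : indB T L i = true) (a : K) :
    IsCh D L i (orbX D P f r a) (crd P f r a i) := by
  obtain ⟨hb, -⟩ := S.orb_spec (K := K) ho
  have g : ∀ j ∈ orbR P r, ∀ c : K, IsCh D L i (xU D j c) (if j = i then c else 0) := fun j hj c =>
    IsCh.gen S.tab S.hC hind (hL j hj) c
  by_cases h1 : P.rho r = r
  · simp only [orbR, h1, if_true, List.mem_singleton] at hi
    subst hi
    simpa [orbX, crd, h1] using g i (mem_orbR_self P i) a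
  have hr := mem_orbR_self P r
  have hs : P.rho r ∈ orbR P r := by simp only [orbR, if_neg h1]; split_ifs <;> simp
  by_cases h2 : P.rho (P.rho r) = r
  · simp only [orbR, if_neg h1, if_pos h2, List.mem_cons, List.not_mem_nil, or_false] at hi
    have := (g r hr a).mul S.tab S.hC hind (g _ hs (P.coef f r a))
    simp only [orbX, if_neg h1, if_pos h2]
    rcases hi with rfl | rfl
    · simpa [crd, h1] using this
    · simpa [crd, h1, Ne.symm h1] using this
  · have ht : P.rho (P.rho r) ∈ orbR P r := by simp [orbR, h1, h2]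
    have h3 : P.rho (P.rho r) ≠ P.rho r := fun e =>
      h1 (S.sys.sig.ok.rho_inj _ (hb _ hs).2 r (hb r hr).2 e)
    simp only [orbR, if_neg h1, if_neg h2, List.mem_cons, List.not_mem_nil, or_false] at hi
    have := ((g r hr a).mul S.tab S.hC hind (g _ hs (P.coef f r a))).mul S.tab S.hC hind
      (g _ ht (P.coef f (P.rho r) (P.coef f r a)))
    simp only [orbX, if_neg h1, if_neg h2]
    rcases hi with rfl | rfl | rfl
    · simpa [crd, h1, h2] using this
    · simpa [crd, h1, Ne.symm h1, h3] using this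
    · simpa [crd, h2, Ne.symm h2, h3, Ne.symm h3] using this

theorem Setting.orbX_zero {r : ℕ} (ho : orbitB T P r = true) : orbX D P f r (0 : K) = 1 := by
  obtain ⟨hb, -⟩ := S.orb_spec (K := K) ho
  have h0 : ∀ i, P.coef f i (0 : K) = 0 := fun i => by simp [S.coef_eq]
  have g : ∀ i ∈ orbR P r, xU D i (0 : K) = 1 := fun i hi => S.tab.facts.xU_zero (hb i hi).2
  unfold orbX
  split_ifs with h1 h2
  · exact g r (mem_orbR_self P r)
  all_goals rw [h0, g r (mem_orbR_self P r), g _ (by simp [orbR, h1, h2]), one_mul]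
  rw [h0, g _ (by simp [orbR, h1, h2]), one_mul]

theorem Setting.coef_add (i : ℕ) (a b : K) :
    P.coef f i (a + b) = P.coef f i a + P.coef f i b := by
  simp only [S.coef_eq, map_add, mul_add]

theorem Setting.orbX_add {r : ℕ} (ho : orbitB T P r = true) (a b : K) :
    orbX D P f r a * orbX D P f r b = orbX D P f r (a + b) := by
  obtain ⟨hb, hcomm⟩ := S.orb_spec (K := K) ho
  have ha : ∀ i ∈ orbR P r, ∀ x y : K, xU D i x * xU D i y = xU D i (x + y) := fun i hi x y =>
    S.tab.facts.xU_add (hb i hi).2 x y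
  have hr := mem_orbR_self P r
  unfold orbX
  split_ifs with h1 h2
  · exact ha r hr a b
  all_goals have hs : P.rho r ∈ orbR P r := by simp [orbR, h1, h2]
  · rw [(hcomm r hr _ hs b (P.coef f r a)).symm.mul_mul_mul_comm, ha r hr, ha _ hs, S.coef_add]
  · have ht : P.rho (P.rho r) ∈ orbR P r := by simp [orbR, h1, h2]
    rw [((hcomm r hr _ ht b (P.coef f (P.rho r) (P.coef f r a))).mul_left
        (hcomm _ hs _ ht (P.coef f r b) _)).symm.mul_mul_mul_comm,
      (hcomm r hr _ hs b (P.coef f r a)).symm.mul_mul_mul_comm, ha r hr, ha _ hs, ha _ ht,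
      S.coef_add, S.coef_add]

/-- A fixed element on one orbit is the orbit element. -/
theorem Setting.orb_only {r : ℕ} (h : splitB T P (orbR P r) r = true) {g : GL D.Idx K} (hg : g ∈ G)
    (hm : g ∈ rootClosure D K (· ∈ orbR P r)) :
    ∃ a, OkA P f r a ∧ g = orbX D P f r a ∧ IsCh D (orbR P r) r g a := by
  obtain ⟨a, ha, hch, w, -, hw, rfl⟩ := S.split h hg hm
  have h0 : rootClosure D K (fun i => i ∈ orbR P r ∧ i ∉ orbR P r) = ⊥ := by
    rw [eq_bot_iff]
    exact (Subgroup.closure_le _).2 (by rintro x ⟨i, c, -, hi, rfl⟩; exact absurd hi.1 hi.2)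
  rw [h0, Subgroup.mem_bot] at hw
  subst hw
  exact ⟨a, ha, mul_one _, hch⟩

end CfsgLib.Chev.SubfieldMax
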