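import Cfsg.Agent.Lib.Known.SubfieldMax.Push
import Cfsg.Agent.Lib.Known.ChevRootCentralizer

/-!
# The certificate for the subgroup of rational points, and its first consequences

The highest root, the positive part as one closed list, long root elements among the rational
points and the rational test elements of the radical.
-/

set_option autoImplicit false
set_option synthInstance.maxSize 4000

namespace CfsgLib.Chev.SubfieldMax

open Cfsg.Lie CfsgLib.Chev.Table CfsgLib.Chev.EvenInvol CfsgLib.Chev.FixedPoints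

universe v

/-- A test element on the orbit of a short root `s` of the radical: a long root `l` and a short
orbit `r` with a term at `s`. -/
structure WTest where
  s : ℕ
  l : ℕ
  r : ℕ
  N : ℤ

/-- A step removing an orbit from an element commuting with a long root element. -/
structure KillStep where
  R : ℕ
  t : ℕ
  src : ℕ
  N : ℤ

/-- A step raising a long positive root. -/
structure LiftStep where
  r : ℕ
  o : ℕ
  K : ℕ
  r' : ℕ
  t : ℕ
  N : ℤ

/-- The computed data. -/
structure Cert where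
  theta : ℕ
  i0 : ℕ
  o0 : ℕ
  Q : List ℕ
  LQ : List ℕ
  negS : List ℕ
  os : List ℕ
  push : List (Option Step)
  Q0 : ℕ
  Lo : List ℕ
  kills : List KillStep
  wts : List WTest
  ders : List (ℕ × ℕ × ℕ)
  combs : List (ℕ × ℕ × ℕ)
  lifts : List LiftStep
  toL : List (ℕ × List ℕ)
  w0 : List ℕ

/-- The height. -/
def htT (T : Tab) (r : ℕ) : ℤ := ((List.range T.rank).map fun j => T.co r j).sum

/-- The roots of the radical higher than `R`. -/
def upQ (T : Tab) (C : Cert) (R : ℕ) : List ℕ := C.Q.filter fun x => decide (htT T R < htT T x)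

/-- The positive roots. -/
def allP (P : TwPar) (C : Cert) : List ℕ := restL P C.os 0

/-- The conditions on the highest root and the lists. -/
def baseB (T : Tab) (P : TwPar) (spec : List (List ℕ × List ℕ)) (C : Cert) : Bool :=
  T.domB 0 C.theta C.i0 &&
  RootCentralizer.sameB T C.i0 C.negS &&
  chkOrbs T P spec && Nat.blt C.o0 spec.length &&
  Nat.ble (T.nroots / 2) C.theta && Nat.beq (P.rho C.theta) C.theta &&
  orbitB T P C.theta &&
  allBelow T.nroots (fun r =>
    (C.Q.elem r == decide (0 < T.pr r C.theta)) &&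
    (C.LQ.elem r == (decide (0 < T.pr r C.theta) && Nat.beq (P.rho r) r && !Nat.beq r C.theta)) &&
    (Nat.blt r (T.nroots / 2) || (allP P C).elem r)) &&
  C.Q.all (fun r => Nat.blt r T.nroots && Nat.ble (T.nroots / 2) r) &&
  C.LQ.all (fun r => Nat.blt r T.nroots) &&
  (allP P C).all (fun r => Nat.blt r T.nroots && Nat.ble (T.nroots / 2) r)

/-- The word carrying the highest root to a given root. -/
def pathB (T : Tab) (spec : List (List ℕ × List ℕ)) (C : Cert) (r : ℕ) : Bool :=
  C.toL.any fun e => Nat.beq e.1 r && e.2.all (fun o => Nat.blt o spec.length) &&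
    Nat.beq (imgW T spec e.2 C.theta) r

variable {D : ChevalleyDatum} {T : Tab} {P : TwPar} {spec : List (List ℕ × List ℕ)}
  {K : Type v} [Field K] {f : K →+* K} {σ : ↥(D.group K) →* GL D.Idx K}
  {G : Subgroup (GL D.Idx K)}

/-- The rational points. -/
def Rat (D : ChevalleyDatum) (f : K →+* K) (G : Subgroup (GL D.Idx K)) (g : GL D.Idx K) : Prop :=
  g ∈ G ∧ gMap D f g = g

theorem Rat.mul {g h : GL D.Idx K} (hg : Rat D f G g) (hh : Rat D f G h) : Rat D f G (g * h) :=
  ⟨Subgroup.mul_mem _ hg.1 hh.1, by rw [map_mul, hg.2, hh.2]⟩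

theorem Rat.inv {g : GL D.Idx K} (hg : Rat D f G g) : Rat D f G g⁻¹ :=
  ⟨Subgroup.inv_mem _ hg.1, by rw [map_inv, hg.2]⟩

theorem Rat.conj {g h : GL D.Idx K} (hg : Rat D f G g) (hh : Rat D f G h) :
    Rat D f G (g * h * g⁻¹) :=
  (hg.mul hh).mul hg.inv

variable (S : Setting T P spec f σ G) {C : Cert} (hB : baseB T P spec C = true)
include S hB

theorem Setting.dom : RootCentralizer.DomCert D 0 C.theta C.i0 := by
  simp only [baseB, Bool.and_eq_true] at hB
  exact RootCentralizer.domCert_of_domB S.tab.arr S.tab.chain S.tab.facts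
    hB.1.1.1.1.1.1.1.1.1.1

theorem Setting.theta_spec : C.theta < D.nroots ∧ D.nroots / 2 ≤ C.theta ∧
    P.rho C.theta = C.theta ∧ orbitB T P C.theta = true := by
  have h := hB
  simp only [baseB, Bool.and_eq_true, Nat.ble_eq, Nat.beq_eq] at h
  exact ⟨(S.dom hB).T_lt, (nroots_eq S.tab.arr).symm ▸ h.1.1.1.1.1.1.2,
    h.1.1.1.1.1.2, h.1.1.1.1.2⟩

theorem Setting.Q_iff {r : ℕ} (hr : r < D.nroots) :
    r ∈ C.Q ↔ 0 < prE D r C.theta := by
  have h := hB
  simp only [baseB, Bool.and_eq_true] at h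
  have := allBelow_spec h.1.1.1.2 r ((nroots_eq S.tab.arr) ▸ hr)
  simp only [Bool.and_eq_true, beq_iff_eq] at this
  rw [CfsgLib.Chev.Lift.pr_eq S.tab.arr hr (S.theta_spec hB).1,
    ← decide_eq_true_eq (p := 0 < T.pr r C.theta), ← this.1.1]
  simp

theorem Setting.LQ_iff {r : ℕ} (hr : r < D.nroots) :
    r ∈ C.LQ ↔ r ∈ C.Q ∧ P.rho r = r ∧ r ≠ C.theta := by
  simp only [baseB, Bool.and_eq_true] at hB
  have := allBelow_spec hB.1.1.1.2 r ((nroots_eq S.tab.arr) ▸ hr)
  simp only [Bool.and_eq_true, beq_iff_eq] at this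
  have h1 : (r ∈ C.LQ) ↔ C.LQ.elem r = true := by simp
  rw [h1, this.1.2, ← this.1.1]
  simp only [Bool.and_eq_true, Bool.not_eq_true', List.elem_eq_mem, decide_eq_true_eq, Nat.beq_eq,
    and_assoc, and_congr_right_iff]
  intro _ _
  exact ⟨fun h e => by subst e; simp at h,
    fun h => Bool.eq_false_iff.2 fun e => h (Nat.eq_of_beq_eq_true e)⟩

theorem Setting.Q_pos {r : ℕ} (hr : r ∈ C.Q) : r < D.nroots ∧ D.nroots / 2 ≤ r := by
  simp only [baseB, Bool.and_eq_true, List.all_eq_true, Nat.blt_eq, Nat.ble_eq] at hB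
  rw [nroots_eq S.tab.arr]
  exact hB.1.1.2 r hr

theorem Setting.LQ_pos {r : ℕ} (hr : r ∈ C.LQ) : r < D.nroots ∧ D.nroots / 2 ≤ r := by
  have h := hB
  simp only [baseB, Bool.and_eq_true, List.all_eq_true, Nat.blt_eq] at h
  exact S.Q_pos hB ((S.LQ_iff hB ((nroots_eq S.tab.arr).symm ▸ h.1.2 r hr)).1 hr).1

theorem Setting.allP_iff {r : ℕ} (hr : r < D.nroots) :
    r ∈ allP P C ↔ D.nroots / 2 ≤ r := by
  have hn := nroots_eq S.tab.arr (D := D)
  simp only [baseB, Bool.and_eq_true, List.all_eq_true, Nat.blt_eq, Nat.ble_eq] at hB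
  refine ⟨fun h => hn ▸ (hB.2 r h).2, fun h => ?_⟩
  have := allBelow_spec hB.1.1.1.2 r (hn ▸ hr)
  simp only [Bool.and_eq_true, Bool.or_eq_true, Nat.blt_eq, List.elem_eq_mem,
    decide_eq_true_eq] at this
  rw [hn] at h
  exact this.2.resolve_left (by omega)

theorem Setting.pos_eq_allP :
    rootClosure D K (D.nroots / 2 ≤ ·) = rootClosure D K (· ∈ allP P C) :=
  rootClosure_congr fun _ hr => (S.allP_iff hB hr).symm

theorem Setting.chkO : chkOrbs T P spec = true := by
  simp only [baseB, Bool.and_eq_true] at hB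
  exact hB.1.1.1.1.1.1.1.1.2

theorem Setting.o0_lt : C.o0 < spec.length := by
  simp only [baseB, Bool.and_eq_true, Nat.blt_eq] at hB
  exact hB.1.1.1.1.1.1.1.2

theorem Setting.negS_iff (s : ℕ) :
    s ∈ C.negS ↔ ∃ j < D.rank, j ≠ C.i0 ∧ s = D.neg (D.simple j) := by
  simp only [baseB, Bool.and_eq_true] at hB
  exact RootCentralizer.mem_list_iff S.tab.arr S.tab.facts hB.1.1.1.1.1.1.1.1.1.2 s

/-- The rational root elements of the highest root. -/
theorem Setting.theta_rat {t : K} (ht : f t = t) : Rat D f G (xU D C.theta t) := by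
  obtain ⟨-, -, h3, h4⟩ := S.theta_spec hB
  have := S.orbX_rat h4 ht
  simpa [Rat, orbX, h3] using this

/-- The rational root elements of the image of the highest root. -/
theorem Setting.path_rat {r : ℕ} (hp : pathB T spec C r = true) {t : K} (ht : f t = t) :
    r < D.nroots ∧ Rat D f G (xU D r t) ∧
      ∃ g, Rat D f G g ∧ ∃ c : K, f c = c ∧ c * c = 1 ∧
        g * xU D C.theta 1 * g⁻¹ = xU D r c := by
  simp only [pathB, List.any_eq_true, Bool.and_eq_true, Nat.beq_eq] at hp
  obtain ⟨e, -, ⟨-, hws⟩, himg⟩ := hp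
  obtain ⟨g, hgG, hgf, -, hg⟩ := S.exists_word e.2 hws (S.chkO hB)
  obtain ⟨h1, c, hc1, hc2, hc⟩ := hg C.theta (S.theta_spec hB).1
  rw [himg] at h1 hc
  refine ⟨h1, ?_, g, ⟨hgG, hgf⟩, c, hc1, hc2, by rw [hc, mul_one]⟩
  have := (show Rat D f G g from ⟨hgG, hgf⟩).conj (S.theta_rat hB (t := c * t)
    (by rw [map_mul, hc1, ht]))
  rwa [hc, ← mul_assoc, hc2, one_mul] at this

omit hB in
/-- The positive part of an orbit element and of a root element. -/
theorem Setting.orbX_fixed_one {r : ℕ} (h : P.rho r = r) (a : K) : orbX D P f r a = xU D r a := by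
  have _ := S
  simp [orbX, h]

theorem Setting.commute_theta {g : GL D.Idx K} (hg : g ∈ rootClosure D K (D.nroots / 2 ≤ ·)) :
    Commute g (xU D C.theta (1 : K)) := by
  have h := RootCentralizer.centralizer_eq S.tab.facts S.hC (S.dom hB) (F := K) Nat.cast_zero
  have h1 : g ∈ rootClosure D K (RootCentralizer.Roots D C.i0) :=
    rootClosure_mono (fun _ _ hs => Or.inl hs) hg
  rw [← h] at h1
  exact Subgroup.mem_centralizer_singleton_iff.1 h1.2

end CfsgLib.Chev.SubfieldMax
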