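import Cfsg.Agent.Lib.Known.SubfieldMax.Radical

/-!
# The centraliser of a rational root element of the highest root in a group over the rational points

If the positive unipotent elements of `H` are rational, so are the elements of `H` commuting with
`x_θ(1)`.
-/

set_option autoImplicit false
set_option synthInstance.maxSize 4000

namespace CfsgLib.Chev.SubfieldMax

open Cfsg.Lie CfsgLib.Chev.Table CfsgLib.Chev.EvenInvol CfsgLib.Chev.FixedPoints

universe v

/-- The roots of the Levi part of the centraliser. -/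
def levL (P : TwPar) (C : Cert) : List ℕ := restL P C.Lo 0 ++ C.negS

/-- The check of the centraliser. -/
def centB (T : Tab) (P : TwPar) (C : Cert) : Bool :=
  (allP P C ++ C.negS).all (fun j => Nat.blt j T.nroots && C.Q.all fun l =>
    Nat.beq j l || (!Nat.beq l (T.neg j) && (termsT T j l).all fun c => C.Q.elem c.1)) &&
  (levL P C).all (fun j => (allP P C ++ C.negS).elem j && (T.co j C.i0 == 0) &&
    (levL P C).elem (P.rho j)) &&
  C.Q.all (fun j => !(T.co j C.i0 == 0) && C.Q.elem (P.rho j) && (allP P C).elem j)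

variable {D : ChevalleyDatum} {T : Tab} {P : TwPar} {spec : List (List ℕ × List ℕ)}
  {K : Type v} [Field K] {f : K →+* K} {σ : ↥(D.group K) →* GL D.Idx K}
  {G : Subgroup (GL D.Idx K)}

variable (S : Setting T P spec f σ G) {C : Cert} (hB : baseB T P spec C = true)
include S hB

theorem Setting.normQ (hc : centB T P C = true) {g : GL D.Idx K}
    (hg : g ∈ rootClosure D K (RootCentralizer.Roots D C.i0)) {x : GL D.Idx K}
    (hx : x ∈ rootClosure D K (· ∈ C.Q)) : g * x * g⁻¹ ∈ rootClosure D K (· ∈ C.Q) := by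
  simp only [centB, Bool.and_eq_true, List.all_eq_true] at hc
  refine (Subgroup.mem_normalizer_iff.1 (S.tab.facts.le_normalizer_rootClosure S.hC
    (P := (· ∈ C.Q)) (Q := RootCentralizer.Roots D C.i0) ?_ hg) x).1 hx
  intro i hi hiR j hj hjQ
  have hmem : i ∈ allP P C ++ C.negS := by
    rcases hiR with h | ⟨k, hk, hne, rfl⟩
    · exact List.mem_append_left _ ((S.allP_iff hB hi).2 h)
    · exact List.mem_append_right _ ((S.negS_iff hB _).2 ⟨k, hk, hne, rfl⟩)
  have h2 := (hc.1.1 i hmem).2 j hjQ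
  simp only [Bool.or_eq_true, Nat.beq_eq, Bool.and_eq_true, Bool.not_eq_true', List.all_eq_true,
    List.elem_eq_mem, decide_eq_true_eq] at h2
  by_cases hij : i = j
  · subst hij
    exact ⟨fun e => S.tab.facts.neg_ne hi e.symm, fun h => absurd rfl h⟩
  obtain ⟨h3, h4⟩ := h2.resolve_left hij
  refine ⟨fun e => ?_, fun _ c hcm => ?_⟩
  · rw [neg_eq S.tab.arr hi] at e
    rw [e] at h3; simp at h3
  · rw [termsT_eq S.tab.arr S.tab.chain S.tab.short hi hj] at hcm
    exact h4 c hcm

variable {H : Subgroup (GL D.Idx K)} (hHG : H ≤ G)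
  (hMH : ∀ g, Rat D f G g → g ∈ H)
  (hpos : ∀ g ∈ H, g ∈ rootClosure D K (D.nroots / 2 ≤ ·) → gMap D f g = g)
include hHG hMH hpos

/-- The elements of `H` commuting with `x_θ(1)` are rational. -/
theorem Setting.cent_rat (hR : radB T P spec C = true) (hc : centB T P C = true) {h : GL D.Idx K}
    (hh : h ∈ H) (hx : Commute h (xU D C.theta (1 : K))) : gMap D f h = h := by
  have hF := S.tab.facts
  have hC := S.hC
  have hroots : h ∈ rootClosure D K (RootCentralizer.Roots D C.i0) := by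
    rw [← RootCentralizer.centralizer_eq hF hC (S.dom hB) (F := K) Nat.cast_zero]
    exact ⟨Img.mem (S.sys.le_fix (hHG hh)), Subgroup.mem_centralizer_singleton_iff.2 hx⟩
  set d := h⁻¹ * gMap D f h with hd
  have hdG : d ∈ G := Subgroup.mul_mem _ (Subgroup.inv_mem _ (hHG hh)) (S.tau_mem _ (hHG hh))
  have hQpos : rootClosure D K (· ∈ C.Q) ≤ rootClosure D K (D.nroots / 2 ≤ ·) :=
    rootClosure_mono fun _ _ hr => (S.Q_pos hB hr).2
  have hcomm : ∀ z, Rat D f G z → z ∈ rootClosure D K (· ∈ C.Q) → Commute d z := by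
    intro z hz hzQ
    have h1 := hpos _ (Subgroup.mul_mem _ (Subgroup.mul_mem _ hh (hMH z hz)) (Subgroup.inv_mem _ hh))
      (hQpos (S.normQ hB hc hroots hzQ))
    rw [map_mul, map_mul, map_inv, hz.2] at h1
    show d * z = z * d
    rw [hd]
    calc h⁻¹ * gMap D f h * z = h⁻¹ * (gMap D f h * z * (gMap D f h)⁻¹) * gMap D f h := by group
      _ = h⁻¹ * (h * z * h⁻¹) * gMap D f h := by rw [h1]
      _ = z * (h⁻¹ * gMap D f h) := by group
  have hR' := hR
  simp only [radB, Bool.and_eq_true, List.all_eq_true] at hR'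
  obtain ⟨⟨⟨⟨hLc, hWc⟩, -⟩, -⟩, -⟩ := hR'
  have hθQ : C.theta ∈ C.Q := by
    obtain ⟨h1, -⟩ := S.theta_spec hB
    refine (S.Q_iff hB h1).2 ?_
    rw [hF.prE_self h1]; norm_num
  have hdQ : d ∈ rootClosure D K (· ∈ C.Q) := by
    refine S.mem_radical hB hR hdG ?_ (fun R hR0 => ?_) (fun e he => ?_)
    · exact hcomm _ (S.theta_rat hB (map_one f))
        (xU_mem_rootClosure (S.theta_spec hB).1 hθQ _)
    · exact hcomm _ (S.path_rat hB (hLc R hR0).2 (map_one f)).2.1
        (xU_mem_rootClosure (S.LQ_pos hB hR0).1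
          ((S.LQ_iff hB (S.LQ_pos hB hR0).1).1 hR0).1 _)
    · obtain ⟨hch, hrat⟩ := S.wEl_spec hB (hWc e he)
      obtain ⟨b, -, hb⟩ := hch e.s (mem_orbR_self P e.s)
      have hT' := hWc e he
      simp only [testB, Bool.and_eq_true, List.all_eq_true, List.elem_eq_mem,
        decide_eq_true_eq] at hT'
      have hsplit := hT'.1.1.2
      simp only [splitB, Bool.and_eq_true, List.all_eq_true] at hsplit
      refine hcomm _ hrat (rootClosure_mono (fun r _ hr => ?_)
        (hb.mem S.tab hC (hsplit.1.2 _ (mem_orbR_self P e.s))))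
      rcases List.mem_append.1 hr with h' | h'
      exacts [hT'.1.1.1.1.2 r h', upQ_sub h']
  -- the decomposition
  have hcc := hc
  simp only [centB, Bool.and_eq_true, List.all_eq_true, List.elem_eq_mem, decide_eq_true_eq,
    Bool.not_eq_true', beq_eq_false_iff_ne, beq_iff_eq, ne_eq, Nat.blt_eq] at hcc
  obtain ⟨⟨hnorm, hlev⟩, hQc⟩ := hcc
  have hn := nroots_eq S.tab.arr (D := D)
  have hLroots : ∀ r ∈ levL P C, RootCentralizer.Roots D C.i0 r := by
    intro r hr
    rcases List.mem_append.1 (hlev r hr).1.1 with h' | h'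
    · exact Or.inl ((S.allP_iff hB (hn ▸ (hnorm r (List.mem_append_left _ h')).1)).1 h')
    · exact Or.inr ((S.negS_iff hB r).1 h')
  have hstart : ∀ r ∈ allP P C, r ∈ restL P C.Lo 0 ++ C.Q := by
    have := hR
    simp only [radB, killB, Bool.and_eq_true, List.all_eq_true, List.elem_eq_mem,
      decide_eq_true_eq] at this
    exact this.2.1.1
  obtain ⟨a, ha, c, hcm, hac⟩ := hF.closure_split hC (A := RootCentralizer.Roots D C.i0)
    (Q₁ := (· ∈ C.Q)) (Q₂ := (· ∈ levL P C))
    (fun r hr hrr => by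
      rcases hrr with h' | ⟨j, hj, hne, rfl⟩
      · rcases List.mem_append.1 (hstart r ((S.allP_iff hB hr).2 h')) with h'' | h''
        exacts [Or.inr (List.mem_append_left _ h''), Or.inl h'']
      · exact Or.inr (List.mem_append_right _ ((S.negS_iff hB _).2 ⟨j, hj, hne, rfl⟩)))
    (fun i hi hiL j hj hjQ => by
      have h2 := (hnorm i (hlev i hiL).1.1).2 j hjQ
      have hij : i ≠ j := fun e => (hQc j hjQ).1.1 (e ▸ (hlev i hiL).1.2)
      simp only [Bool.or_eq_true, Nat.beq_eq, Bool.and_eq_true, Bool.not_eq_true',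
        List.all_eq_true, List.elem_eq_mem, decide_eq_true_eq] at h2
      obtain ⟨h3, h4⟩ := h2.resolve_left hij
      refine ⟨fun e => ?_, fun _ x hx => ?_⟩
      · rw [neg_eq S.tab.arr hi] at e; rw [e] at h3; simp at h3
      · rw [termsT_eq S.tab.arr S.tab.chain S.tab.short hi hj] at hx
        exact h4 x hx) hroots
  set J : Set ℕ := {j | j ≠ C.i0} with hJ
  have hrad : rootClosure D K (· ∈ C.Q) ≤ D.unipotentRadical K J := by
    rw [hF.radical_eq]
    exact rootClosure_mono fun r _ hr => ⟨(S.Q_pos hB hr).2, fun hs =>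
      (hQc r hr).1.1 (hs C.i0 (S.dom hB).i0_lt (by simp [hJ]))⟩
  have hlevle : rootClosure D K (· ∈ levL P C) ≤ D.leviSubgroup K J := by
    rw [hF.levi_eq]
    refine le_trans (rootClosure_mono fun r _ hr j _ hjJ => ?_) le_sup_right
    rw [show j = C.i0 by simpa [hJ] using hjJ]
    exact (hlev r hr).1.2
  have huniq : ∀ a a' c c' : GL D.Idx K, a ∈ rootClosure D K (· ∈ C.Q) →
      a' ∈ rootClosure D K (· ∈ C.Q) → c ∈ rootClosure D K (· ∈ levL P C) →
      c' ∈ rootClosure D K (· ∈ levL P C) → a' * c' = a * c → a' = a ∧ c' = c := by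
    intro a a' c c' h1 h2 h3 h4 e
    have h5 : a⁻¹ * a' ∈ D.unipotentRadical K J ⊓ D.leviSubgroup K J := by
      refine ⟨Subgroup.mul_mem _ (Subgroup.inv_mem _ (hrad h1)) (hrad h2), ?_⟩
      rw [show a⁻¹ * a' = c * c'⁻¹ by rw [eq_mul_inv_iff_mul_eq, mul_assoc, e, inv_mul_cancel_left]]
      exact Subgroup.mul_mem _ (hlevle h3) (Subgroup.inv_mem _ (hlevle h4))
    rw [hF.radical_inf_levi _, Subgroup.mem_bot, inv_mul_eq_one] at h5
    subst h5
    exact ⟨rfl, mul_left_cancel e⟩
  obtain ⟨a', ha', ea⟩ := S.sys.sig.img_rootClosure (B := (· ∈ C.Q))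
    (fun r _ hr => (hQc r hr).1.2) ha
  obtain ⟨c', hc', ec⟩ := S.sys.sig.img_rootClosure (B := (· ∈ levL P C))
    (fun r _ hr => (hlev r hr).2) hcm
  obtain ⟨e1, -⟩ := huniq a a' c c' ha ha' hcm hc'
    (((ea.mul ec).unique (hac ▸ S.sys.le_fix (hHG hh))).trans rfl)
  rw [e1] at ea
  have haG : a ∈ G := S.sys.posU_le ⟨ea, hQpos ha⟩
  have hcG : c ∈ G := by
    have := Subgroup.mul_mem _ (Subgroup.inv_mem _ haG) (hHG hh)
    rwa [hac, inv_mul_cancel_left] at this
  have hconjd : c * d * c⁻¹ ∈ rootClosure D K (· ∈ C.Q) :=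
    S.normQ hB hc (rootClosure_mono (fun r _ hr => hLroots r hr) hcm) hdQ
  obtain ⟨-, e2⟩ := huniq (a * (c * d * c⁻¹)) (gMap D f a) c (gMap D f c)
    (Subgroup.mul_mem _ ha hconjd) (gMap_mem hF f ha) hcm (gMap_mem hF f hcm) (by
      rw [← map_mul, ← hac, show a * (c * d * c⁻¹) * c = a * c * d by group, ← hac, hd,
        mul_inv_cancel_left])
  have hcH := hMH c ⟨hcG, e2⟩
  have haH : a ∈ H := by
    have := Subgroup.mul_mem _ hh (Subgroup.inv_mem _ hcH)
    rwa [hac, mul_inv_cancel_right] at this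
  rw [hac, map_mul, e2, hpos a haH (hQpos ha)]

end CfsgLib.Chev.SubfieldMax
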