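import Cfsg.Agent.Lib.Known.SubfieldMax.Generate
import Cfsg.Agent.Lib.Chev.Twist.Words

/-!
# Common parts of the maximality of the rational points

Entrywise fixed matrices, existence of an irrational element, and the dichotomy in the form needed.
-/

set_option autoImplicit false
set_option synthInstance.maxSize 4000

namespace CfsgLib.Chev.SubfieldMax

open Cfsg.Lie CfsgLib.Chev.Table CfsgLib.Chev.EvenInvol CfsgLib.Chev.FixedPoints

universe v

theorem gMap_fixed_iff {D : ChevalleyDatum} {K : Type v} [Field K] {f : K →+* K} {q : ℕ}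
    (hf : ∀ t, f t = t ^ q) (g : GL D.Idx K) :
    (∀ i j : D.Idx, ((g : Matrix D.Idx D.Idx K) i j) ^ q = (g : Matrix D.Idx D.Idx K) i j) ↔
      gMap D f g = g := by
  have e : ∀ i j : D.Idx, ((gMap D f g : GL D.Idx K) : Matrix D.Idx D.Idx K) i j =
      ((g : Matrix D.Idx D.Idx K) i j) ^ q := fun i j => hf _
  constructor
  · intro h
    exact Units.ext (Matrix.ext fun i j => (e i j).trans (h i j))
  · intro h i j
    rw [← e, h]

theorem exists_not_fixed {K : Type v} [Field K] [Fintype K] {f : K →+* K} {q n : ℕ}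
    (hf : ∀ t, f t = t ^ q) (hq : 1 < q) (hn : 1 < n) (hK : Fintype.card K = q ^ n) :
    ∃ a, f a ≠ a := by
  by_contra hc
  simp only [not_exists, not_not] at hc
  have h1 := card_field_fix hq hK
  have h2 : Nat.card {t : K // t ^ q = t} = Nat.card K :=
    Nat.card_congr (Equiv.subtypeUnivEquiv fun t => (hf t).symm.trans (hc t))
  rw [h1, Nat.card_eq_fintype_card, hK] at h2
  have : q ^ 1 < q ^ n := Nat.pow_lt_pow_right hq hn
  rw [pow_one] at this
  omega

variable {D : ChevalleyDatum} {T : Tab} {P : TwPar} {spec : List (List ℕ × List ℕ)}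
  {K : Type v} [Field K] {f : K →+* K} {σ : ↥(D.group K) →* GL D.Idx K}
  {G : Subgroup (GL D.Idx K)}

/-- The rational points form a proper maximal subgroup once irrational short elements generate. -/
theorem Setting.maximal (S : Setting T P spec f σ G) {C : Cert}
    (hcert : certB T P spec C = true) {r : ℕ} (hr : splitB T P (orbR P r) r = true)
    {a₀ : K} (ha₀ : OkA P f r a₀) (hfa₀ : f a₀ ≠ a₀)
    (hgen : ∀ H : Subgroup (GL D.Idx K), H ≤ G → (∀ g, Rat D f G g → g ∈ H) →
      (∃ a, OkA P f C.Q0 a ∧ f a ≠ a ∧ orbX D P f C.Q0 a ∈ H) → G ≤ H)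
    {M : Subgroup (GL D.Idx K)} (hM : ∀ g, g ∈ M ↔ Rat D f G g) :
    M ≠ G ∧ ∀ H : Subgroup (GL D.Idx K), M ≤ H → H ≤ G → H = M ∨ H = G := by
  refine ⟨fun e => ?_, fun H hMH hHG => ?_⟩
  · obtain ⟨h1, h2⟩ := S.orbX_irrational hr ha₀ hfa₀
    exact h2 ((hM _).1 (e.symm ▸ h1)).2
  have hMH' : ∀ g, Rat D f G g → g ∈ H := fun g hg => hMH ((hM g).2 hg)
  have hper : ∀ a : K, ∀ r, f^[olen P r] a = a → olen P r = 3 → f (f (f a)) = a := by
    intro a r h1 h2
    rw [h2] at h1
    exact h1
  rcases S.rat_or_short hMH' hcert hper hHG with h | h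
  · exact Or.inl (le_antisymm (fun g hg => (hM g).2 ⟨hHG hg, h g hg⟩) hMH)
  · exact Or.inr (le_antisymm hHG (hgen H hHG hMH' h))

end CfsgLib.Chev.SubfieldMax
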