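import Cfsg.Agent.Lib.Known.EvenInvol.Check
import Cfsg.Agent.Lib.Known.LacedInvol.Reduce
import Cfsg.Agent.Lib.Known.ChevFixedPoints

/-!
# The coordinate at an indecomposable root of a closed set

If no commutator term of a closed set `S` of positive roots hits `r`, the parameter at `r` is an
additive function on the subgroup of `S`, compatible with field maps and with conjugation.
-/

set_option autoImplicit false
set_option synthInstance.maxSize 4000

namespace CfsgLib.Chev.SubfieldMax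

open Cfsg.Lie CfsgLib.Chev.Table CfsgLib.Chev.EvenInvol CfsgLib.Chev.FixedPoints

universe v

/-- A closed list of positive roots in which `r` is indecomposable. -/
def indB (T : Tab) (S : List ℕ) (r : ℕ) : Bool :=
  S.elem r && S.all fun i => Nat.ble (T.nroots / 2) i && Nat.blt i T.nroots &&
    S.all fun j => Nat.beq j i || (termsT T i j).all fun c => S.elem c.1 && !Nat.beq c.1 r

/-- The root `j` maps `S` to itself by conjugation, moving `N` times the coordinate at `r` to `k`. -/
def trB (T : Tab) (S : List ℕ) (j r k : ℕ) (N : ℤ) : Bool :=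
  Nat.ble (T.nroots / 2) j && Nat.blt j T.nroots && (!Nat.beq j r || (N == 0)) && S.all fun l => Nat.beq l j ||
    ((termsT T j l).all (fun c => S.elem c.1) &&
      (((termsT T j l).filter fun c => Nat.beq c.1 k) ==
        bif Nat.beq l r && !(N == 0) then [(k, N, 1, 1)] else []))

/-- A table of a datum. -/
structure TabOK (D : ChevalleyDatum) (T : Tab) : Prop where
  facts : Facts D T.co
  arr : T.chkArrays D = true
  chain : T.chkChain D = true
  short : ShortChains D

variable {D : ChevalleyDatum} {T : Tab} {F : Type v} [Field F]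

/-- `g` has coordinate `t` at `r` in the subgroup of `S`. -/
def IsCh (D : ChevalleyDatum) (S : List ℕ) (r : ℕ) (g : GL D.Idx F) (t : F) : Prop :=
  (xU D r t)⁻¹ * g ∈ rootClosure D F fun s => s ∈ S ∧ s ≠ r

variable (hT : TabOK D T) (hC : CommF.{v} D)

theorem TabOK.lt {r : ℕ} (h : r < T.nroots) (hT : TabOK D T) : r < D.nroots :=
  (nroots_eq hT.arr).symm ▸ h

include hT hC

theorem pos_of_ind {S : List ℕ} {r : ℕ} (h : indB T S r = true) :
    r ∈ S ∧ ∀ i ∈ S, D.nroots / 2 ≤ i ∧ i < D.nroots := by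
  have := hC
  simp only [indB, Bool.and_eq_true, List.all_eq_true, List.elem_eq_mem, decide_eq_true_eq,
    Nat.ble_eq, Nat.blt_eq] at h
  refine ⟨h.1, fun i hi => ?_⟩
  rw [nroots_eq hT.arr]
  exact (h.2 i hi).1

/-- Commutator terms inside the set. -/
theorem terms_ind {S : List ℕ} {r : ℕ} (h : indB T S r = true) {i j : ℕ} (hi : i ∈ S) (hj : j ∈ S)
    (hne : i ≠ j) {c : ℕ × ℤ × ℕ × ℕ} (hc : c ∈ D.commTerms i j) : c.1 ∈ S ∧ c.1 ≠ r := by
  obtain ⟨-, hpos⟩ := pos_of_ind hT hC h
  rw [termsT_eq hT.arr hT.chain hT.short (hpos i hi).2 (hpos j hj).2] at hc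
  simp only [indB, Bool.and_eq_true, List.all_eq_true, List.elem_eq_mem, decide_eq_true_eq,
    Bool.or_eq_true, Nat.beq_eq, Bool.not_eq_true'] at h
  obtain ⟨h1, h2⟩ := ((h.2 i hi).2 j hj).resolve_left (fun e => hne e.symm) c hc
  exact ⟨h1, fun e => by rw [e] at h2; simp at h2⟩

/-- Conjugation inside the subgroup of `S`. -/
theorem norm_rest {S : List ℕ} {r : ℕ} (h : indB T S r = true) {g : GL D.Idx F}
    (hg : g ∈ rootClosure D F (· ∈ S)) {y : GL D.Idx F}
    (hy : y ∈ rootClosure D F fun s => s ∈ S ∧ s ≠ r) :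
    g * y * g⁻¹ ∈ rootClosure D F fun s => s ∈ S ∧ s ≠ r := by
  obtain ⟨-, hpos⟩ := pos_of_ind hT hC h
  have gen : ∀ i ∈ S, ∀ a : F, ∀ z ∈ rootClosure D F (fun s => s ∈ S ∧ s ≠ r),
      xU D i a * z * (xU D i a)⁻¹ ∈ rootClosure D F fun s => s ∈ S ∧ s ≠ r := by
    intro i hi a z hz
    refine conj_closure (fun x hx => ?_) hz
    obtain ⟨l, b, hl, hlS, rfl⟩ := hx
    rw [hT.facts.xU_inv (hpos i hi).2]
    refine hT.facts.conj_xU_mem hC (hpos i hi).2 hl ?_ hlS (fun hne c hc =>
      terms_ind hT hC h hi hlS.1 hne hc) a b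
    intro e
    have := (hT.facts.neg_lt_half (hpos i hi).2).not.2 (by have := (hpos i hi).1; omega)
    have := (hpos l hlS.1).1
    omega
  induction hg using Subgroup.closure_induction_left generalizing y with
  | one => simpa using hy
  | mul_left x hx z _ ih =>
    obtain ⟨i, a, -, hi, rfl⟩ := hx
    rw [show xU D i a * z * y * (xU D i a * z)⁻¹ = xU D i a * (z * y * z⁻¹) * (xU D i a)⁻¹ by group]
    exact gen i hi a _ (ih hy)
  | inv_mul_cancel x hx z _ ih =>
    obtain ⟨i, a, hiN, hi, rfl⟩ := hx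
    rw [hT.facts.xU_inv hiN,
      show xU D i (-a) * z * y * (xU D i (-a) * z)⁻¹ =
        xU D i (-a) * (z * y * z⁻¹) * (xU D i (-a))⁻¹ by group]
    exact gen i hi (-a) _ (ih hy)

theorem IsCh.mem {S : List ℕ} {r : ℕ} (h : indB T S r = true) {g : GL D.Idx F} {t : F}
    (hg : IsCh D S r g t) : g ∈ rootClosure D F (· ∈ S) := by
  obtain ⟨hr, hpos⟩ := pos_of_ind hT hC h
  have := Subgroup.mul_mem _ (xU_mem_rootClosure (P := (· ∈ S)) (hpos r hr).2 hr t)
    (rootClosure_mono (fun s _ hs => hs.1) hg)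
  rwa [mul_inv_cancel_left] at this

theorem IsCh.unique {S : List ℕ} {r : ℕ} (h : indB T S r = true) {g : GL D.Idx F} {t t' : F}
    (hg : IsCh D S r g t) (hg' : IsCh D S r g t') : t = t' := by
  obtain ⟨hr, hpos⟩ := pos_of_ind hT hC h
  obtain ⟨hrp, hrN⟩ := hpos r hr
  have h1 := Subgroup.mul_mem _ hg (Subgroup.inv_mem _ hg')
  rw [show (xU D r t)⁻¹ * g * ((xU D r t')⁻¹ * g)⁻¹ = (xU D r t)⁻¹ * xU D r t' by group,
    hT.facts.xU_inv hrN, hT.facts.xU_add hrN] at h1
  have h2 := LacedInvol.not_mem hT.facts hC (P := fun s => s ∈ S ∧ s ≠ r)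
    (fun s _ hs => (hpos s hs.1).1) (fun i _ hi j _ hj hne c hc =>
      terms_ind hT hC h hi.1 hj.1 hne hc) hrN hrp (fun e => e.2 rfl) h1
    (xU_mem_rootClosure (P := (r ≤ ·)) hrN le_rfl _)
  exact neg_add_eq_zero.1 (hT.facts.xU_eq_zero_of_ut hrN hrp (hT.facts.above_ut hrN hrp h2))

theorem IsCh.zero {S : List ℕ} {r : ℕ} (h : indB T S r = true) {g : GL D.Idx F}
    (hg : g ∈ rootClosure D F fun s => s ∈ S ∧ s ≠ r) : IsCh D S r g 0 := by
  obtain ⟨hr, hpos⟩ := pos_of_ind hT hC h
  rwa [IsCh, hT.facts.xU_zero (hpos r hr).2, inv_one, one_mul]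

theorem IsCh.gen {S : List ℕ} {r : ℕ} (h : indB T S r = true) {s : ℕ} (hs : s ∈ S) (c : F) :
    IsCh D S r (xU D s c) (if s = r then c else 0) := by
  obtain ⟨-, hpos⟩ := pos_of_ind hT hC h
  split_ifs with e
  · subst e; rw [IsCh, inv_mul_cancel]; exact Subgroup.one_mem _
  · exact IsCh.zero hT hC h (xU_mem_rootClosure (hpos s hs).2 ⟨hs, e⟩ c)

theorem IsCh.mul {S : List ℕ} {r : ℕ} (h : indB T S r = true) {g g' : GL D.Idx F} {t t' : F}
    (hg : IsCh D S r g t) (hg' : IsCh D S r g' t') : IsCh D S r (g * g') (t + t') := by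
  obtain ⟨hr, hpos⟩ := pos_of_ind hT hC h
  have h1 := norm_rest hT hC h
    (xU_mem_rootClosure (P := (· ∈ S)) (hpos r hr).2 hr (-t')) hg
  have h2 := Subgroup.mul_mem _ h1 hg'
  rw [IsCh, ← hT.facts.xU_add (hpos r hr).2]
  rwa [← hT.facts.xU_inv (hpos r hr).2,
    show (xU D r t')⁻¹ * ((xU D r t)⁻¹ * g) * (xU D r t')⁻¹⁻¹ * ((xU D r t')⁻¹ * g') =
      (xU D r t * xU D r t')⁻¹ * (g * g') by group] at h2

theorem IsCh.inv {S : List ℕ} {r : ℕ} (h : indB T S r = true) {g : GL D.Idx F} {t : F}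
    (hg : IsCh D S r g t) : IsCh D S r g⁻¹ (-t) := by
  obtain ⟨hr, hpos⟩ := pos_of_ind hT hC h
  have h1 := norm_rest hT hC h (xU_mem_rootClosure (P := (· ∈ S)) (hpos r hr).2 hr t)
    (Subgroup.inv_mem _ hg)
  rw [IsCh, ← hT.facts.xU_inv (hpos r hr).2, inv_inv]
  rwa [show xU D r t * ((xU D r t)⁻¹ * g)⁻¹ * (xU D r t)⁻¹ = xU D r t * g⁻¹ by group] at h1

theorem exists_ch {S : List ℕ} {r : ℕ} (h : indB T S r = true) {g : GL D.Idx F}
    (hg : g ∈ rootClosure D F (· ∈ S)) : ∃ t, IsCh D S r g t := by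
  induction hg using Subgroup.closure_induction with
  | mem x hx =>
    obtain ⟨s, c, -, hs, rfl⟩ := hx
    exact ⟨_, IsCh.gen hT hC h hs c⟩
  | one => exact ⟨0, IsCh.zero hT hC h (Subgroup.one_mem _)⟩
  | mul x y _ _ hx hy =>
    obtain ⟨a, ha⟩ := hx; obtain ⟨b, hb⟩ := hy
    exact ⟨_, ha.mul hT hC h hb⟩
  | inv x _ hx => obtain ⟨a, ha⟩ := hx; exact ⟨_, ha.inv hT hC h⟩

/-- The coordinate of a word. -/
theorem IsCh.word {S : List ℕ} {r : ℕ} (h : indB T S r = true) {w : List (ℕ × F)}
    (hw : ∀ p ∈ w, p.1 ∈ S) :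
    IsCh D S r (wU D w) (w.map fun p => if p.1 = r then p.2 else 0).sum := by
  induction w with
  | nil => exact IsCh.zero hT hC h (Subgroup.one_mem _)
  | cons p w ih =>
    rw [wU_cons, List.map_cons, List.sum_cons]
    exact (IsCh.gen hT hC h (hw p (by simp)) p.2).mul hT hC h
      (ih fun q hq => hw q (List.mem_cons_of_mem _ hq))

/-- A field map carries coordinates. -/
theorem IsCh.map {S : List ℕ} {r : ℕ} (h : indB T S r = true) (φ : F →+* F) {g : GL D.Idx F}
    {t : F} (hg : IsCh D S r g t) : IsCh D S r (gMap D φ g) (φ t) := by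
  obtain ⟨hr, hpos⟩ := pos_of_ind hT hC h
  have h1 := gMap_mem hT.facts φ hg
  rwa [map_mul, map_inv, gMap_xU hT.facts φ (hpos r hr).2] at h1

/-- A rational element has rational coordinates. -/
theorem IsCh.fixed {S : List ℕ} {r : ℕ} (h : indB T S r = true) (φ : F →+* F) {g : GL D.Idx F}
    {t : F} (hg : IsCh D S r g t) (hfix : gMap D φ g = g) : φ t = t := by
  have h1 := hg.map hT hC h φ
  rw [hfix] at h1
  exact h1.unique hT hC h hg

/-- The coordinates after conjugation by a root element. -/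
theorem IsCh.conj {S : List ℕ} {r k j : ℕ} {N : ℤ} (hr : indB T S r = true)
    (hk : indB T S k = true) (htr : trB T S j r k N = true) (a : F) {g : GL D.Idx F} {b e : F}
    (hgr : IsCh D S r g b) (hgk : IsCh D S k g e) :
    IsCh D S k (xU D j a * g * (xU D j a)⁻¹) (e + (N : F) * a * b) := by
  simp only [trB, Bool.and_eq_true, List.all_eq_true, Nat.ble_eq, Nat.blt_eq, Bool.or_eq_true,
    Nat.beq_eq, beq_iff_eq, List.elem_eq_mem, decide_eq_true_eq] at htr
  obtain ⟨⟨⟨hjp, hj⟩, hjr⟩, htr⟩ := htr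
  have hjN : j < D.nroots := TabOK.lt hj hT
  have hjP : D.nroots / 2 ≤ j := by rw [nroots_eq hT.arr]; exact hjp
  obtain ⟨-, hpos⟩ := pos_of_ind hT hC hk
  suffices H : ∀ g ∈ rootClosure D F (· ∈ S), ∃ b e, IsCh D S r g b ∧ IsCh D S k g e ∧
      IsCh D S k (xU D j a * g * (xU D j a)⁻¹) (e + (N : F) * a * b) by
    obtain ⟨b', e', h1, h2, h3⟩ := H g (hgr.mem hT hC hr)
    rwa [hgr.unique hT hC hr h1, hgk.unique hT hC hk h2]
  intro g hg
  induction hg using Subgroup.closure_induction with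
  | one => exact ⟨0, 0, IsCh.zero hT hC hr (Subgroup.one_mem _),
      IsCh.zero hT hC hk (Subgroup.one_mem _), by
        simpa using IsCh.zero hT hC hk (g := (1 : GL D.Idx F)) (Subgroup.one_mem _)⟩
  | mul x y _ _ hx hy =>
    obtain ⟨b, e, h1, h2, h3⟩ := hx
    obtain ⟨b', e', h1', h2', h3'⟩ := hy
    refine ⟨_, _, h1.mul hT hC hr h1', h2.mul hT hC hk h2', ?_⟩
    rw [show xU D j a * (x * y) * (xU D j a)⁻¹ = xU D j a * x * (xU D j a)⁻¹ *
      (xU D j a * y * (xU D j a)⁻¹) by group, show e + e' + (N : F) * a * (b + b') =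
        (e + (N : F) * a * b) + (e' + (N : F) * a * b') by ring]
    exact h3.mul hT hC hk h3'
  | inv x _ hx =>
    obtain ⟨b, e, h1, h2, h3⟩ := hx
    refine ⟨_, _, h1.inv hT hC hr, h2.inv hT hC hk, ?_⟩
    rw [show xU D j a * x⁻¹ * (xU D j a)⁻¹ = (xU D j a * x * (xU D j a)⁻¹)⁻¹ by group,
      show -e + (N : F) * a * -b = -(e + (N : F) * a * b) by ring]
    exact h3.inv hT hC hk
  | mem x hx =>
    obtain ⟨l, c, hl, hlS, rfl⟩ := hx
    refine ⟨_, _, IsCh.gen hT hC hr hlS c, IsCh.gen hT hC hk hlS c, ?_⟩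
    by_cases hlj : l = j
    · subst hlj
      rw [show xU D l a * xU D l c * (xU D l a)⁻¹ = xU D l c by
        rw [hT.facts.xU_add hl, hT.facts.xU_inv hl, hT.facts.xU_add hl]; congr 1; ring]
      by_cases e : l = r
      · subst e
        have hN0 : N = 0 := hjr.resolve_left (by simp)
        simpa [hN0] using IsCh.gen hT hC hk hlS c
      · simpa [e] using IsCh.gen hT hC hk hlS c
    · have hneg : l ≠ D.neg j := fun e => by
        have := (hT.facts.neg_lt_half hjN).not.2 (by omega)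
        have := (hpos l hlS).1
        omega
      obtain ⟨hin, hfil⟩ := (htr l hlS).resolve_left hlj
      rw [← termsT_eq hT.arr hT.chain hT.short hjN hl] at hin hfil
      have e1 : xU D j a * xU D l c * (xU D j a)⁻¹ = xU D l c * wU D (cwR D j l (-a) c) := by
        rw [hT.facts.xU_inv hjN, mul_assoc,
          hT.facts.xU_comm hC hjN hl hlj hneg (-a) c, ← mul_assoc, ← mul_assoc,
          hT.facts.xU_add hjN, add_neg_cancel, hT.facts.xU_zero hjN, one_mul]
      rw [e1]
      have hw := IsCh.word hT hC hk (w := cwR D j l (-a) c) fun p hp => by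
        obtain ⟨t, ht, rfl⟩ := List.mem_map.1 hp
        exact hin t ht
      have hsum : ((cwR D j l (-a) c).map fun p => if p.1 = k then p.2 else 0).sum =
          (N : F) * a * (if l = r then c else 0) := by
        have e2 : ∀ L : List (ℕ × ℤ × ℕ × ℕ),
            (((L.map fun t => (t.1, (t.2.1 : F) * (-(-a)) ^ t.2.2.1 * c ^ t.2.2.2))).map
              fun p => if p.1 = k then p.2 else 0).sum =
            ((L.filter fun t => Nat.beq t.1 k).map
              fun t => (t.2.1 : F) * a ^ t.2.2.1 * c ^ t.2.2.2).sum := by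
          intro L
          induction L with
          | nil => rfl
          | cons t L ih =>
            simp only [neg_neg] at ih ⊢
            by_cases ht : t.1 = k
            · rw [List.filter_cons_of_pos (by simp [ht])]
              simp only [List.map_cons, List.sum_cons, ih, ht, if_true]
            · rw [List.filter_cons_of_neg (by simpa using ht)]
              simp only [List.map_cons, List.sum_cons, ih, ht, if_false, zero_add]
        rw [cwR, e2, hfil]
        by_cases hlr : l = r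
        · subst hlr
          by_cases hN : N = 0
          · simp [hN]
          · simp [show (N == 0) = false from beq_eq_false_iff_ne.2 hN]
        · simp [hlr, show Nat.beq l r = false from
            Bool.eq_false_iff.2 fun e => hlr (Nat.eq_of_beq_eq_true e)]
      have := (IsCh.gen hT hC hk hlS c).mul hT hC hk hw
      rwa [hsum] at this

end CfsgLib.Chev.SubfieldMax
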