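import Cfsg.Agent.Lib.Known.SubfieldMax.Generate
import Cfsg.Agent.Lib.Chev.Twist.D4

/-!
# The certificate for the rational points of the twisted groups on the tables of type D4

Computed data, checked by the kernel against the tables.
-/

set_option autoImplicit false
set_option maxRecDepth 100000
set_option Elab.async false

namespace CfsgLib.Chev.SubfieldMax.D4

open Cfsg.Lie CfsgLib.Chev.Table

/-- The certificate. -/
def cert : Cert where
  theta := 23
  i0 := 1
  o0 := 0
  Q := [14, 15, 16, 17, 19, 20, 21, 22, 23]
  LQ := [14, 22]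
  negS := [5, 10, 11]
  os := [12, 14, 15, 17, 22, 23]
  push := [
    some ⟨14, [15, 16, 17, 19, 20, 21, 22, 23], 15,
      [(14, 12, 1)]⟩,
    none,
    some ⟨12, [17, 20, 21, 22, 23], 17,
      [(12, 16, (-1)), (18, 15, 0), (13, 15, (-1))]⟩,
    none,
    none,
    none]
  Q0 := 17
  Lo := [12]
  kills := [⟨14, 15, 12, 1⟩]
  wts := [⟨15, 14, 12, 1⟩]
  ders := [(14, 12, 15), (14, 13, 16), (14, 18, 19), (15, 13, 17), (15, 18, 20), (15, 21, 23)]
  combs := [(1, 22, 14)]
  lifts := [⟨14, 1, 18, 22, 19, (-1)⟩, ⟨22, 0, 14, 23, 23, 1⟩]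
  toL := [(14, [1, 0]), (22, [0]), (9, [0, 1, 0])]
  w0 := [0, 1, 0, 1, 0]

theorem cert_base : baseB DataD4.tab parD4 TwD4.spec cert = true := by decide +kernel

theorem cert_push : pushB DataD4.tab parD4 cert.os cert.push cert.Q0 = true := by decide +kernel

theorem cert_rad : radB DataD4.tab parD4 TwD4.spec cert = true := by decide +kernel

theorem cert_cent : centB DataD4.tab parD4 cert = true := by decide +kernel

theorem cert_fus : fusB DataD4.tab parD4 TwD4.spec cert = true := by decide +kernel

theorem cert_ok : certB DataD4.tab parD4 TwD4.spec cert = true := by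
  simp only [certB, cert_base, cert_push, cert_rad, cert_cent, cert_fus, Bool.and_self]

/-- The words carrying the short generators to the orbit of the root 12. -/
def moves : List (List ℕ × List ℕ) := [([18, 13, 12], []), ([5, 10, 11], [1])]

theorem moves_ok : (moves.all fun e => moveB DataD4.tab parD4 TwD4.spec e.1 12 e.2) = true := by
  decide +kernel

end CfsgLib.Chev.SubfieldMax.D4
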