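import Cfsg.Agent.Lib.Known.SubfieldMax.Common
import Cfsg.Agent.Lib.Known.SubfieldMax.D4Cert

/-!
# The rational points of ³D₄(q) form a maximal subgroup

The parameters of the short root elements in an intermediate group form a subspace over the
subfield, closed under `a ↦ a^(q + q²)`, hence containing the square of an irrational element.
-/

set_option autoImplicit false
set_option maxRecDepth 20000
set_option synthInstance.maxSize 4000
set_option maxHeartbeats 1000000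

namespace CfsgLib.Chev.SubfieldMax.D4

open Cfsg.Lie CfsgLib.Chev.Table CfsgLib.Chev.FixedPoints

universe v

/-- The roots of the radical. -/
def SQ : List ℕ := [14, 15, 19, 16, 17, 20, 21, 22, 23]

variable {K : Type v} [Field K] [Fintype K] {q : ℕ} (C : TwD4.Ctx K q)

theorem tau_mem (g : GL chevD4.Idx K) (hg : g ∈ twistedD4 K q) :
    gMap chevD4 C.f g ∈ twistedD4 K q := by
  have hF := DataD4.facts
  rw [C.gen_eq] at hg
  refine (Subgroup.closure_le (K := (twistedD4 K q).comap (gMap chevD4 C.f))).2 ?_ hg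
  rintro x ⟨w, hw, rfl⟩
  have hlt := (C.gen_fixed w hw).2
  have e : gMap chevD4 C.f (wU chevD4 w) = wU chevD4 (w.map fun p => (p.1, C.f p.2)) := by
    rw [wU, wU, map_list_prod, List.map_map, List.map_map]
    exact congrArg _ (List.map_congr_left fun p hp => gMap_xU hF C.f (hlt p hp) p.2)
  rw [SetLike.mem_coe, Subgroup.mem_comap, e]
  refine C.mem_gen ?_
  rcases hw with ⟨t, ht, r, hr, rfl⟩ | ⟨t, rs, hrs, rfl⟩
  · exact Or.inl ⟨C.f t, by rw [← map_pow, ht], r, hr, rfl⟩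
  · exact Or.inr ⟨C.f t, rs, hrs, by simp [map_pow]⟩

theorem word_tables : (TwD4.O ⟨0, by decide⟩).word = [⟨1, by decide⟩] ∧
    (TwD4.O ⟨1, by decide⟩).word = [⟨0, by decide⟩, ⟨2, by decide⟩, ⟨3, by decide⟩] ∧
    chevD4.simple 1 = d4p2 ∧ chevD4.neg d4p2 = d4m2 ∧
    chevD4.simple 0 = d4p1 ∧ chevD4.simple 2 = d4p3 ∧ chevD4.simple 3 = d4p4 ∧
    chevD4.neg d4p1 = d4m1 ∧ chevD4.neg d4p3 = d4m3 ∧ chevD4.neg d4p4 = d4m4 ∧
    ([d4p1, d4m1, d4p3, d4m3, d4p4, d4m4].all fun a => Nat.blt a 24) = true ∧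
    (([d4p1, d4m1].all fun a => [d4p3, d4m3, d4p4, d4m4].all fun b => nullB DataD4.tab a b) &&
      ([d4p3, d4m3].all fun a => [d4p4, d4m4].all fun b => nullB DataD4.tab a b)) = true := by
  decide +kernel

theorem sandwich₃ {M : Type*} [Group M] {a b c a' b' c' : M} (h1 : Commute a b) (h2 : Commute a' b)
    (h3 : Commute a b') (h4 : Commute a c) (h5 : Commute a' c) (h6 : Commute b c)
    (h7 : Commute b' c) (h8 : Commute a c') (h9 : Commute b c') :
    (a * b * c) * (a' * b' * c') * (a * b * c) =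
      (a * a' * a) * (b * b' * b) * (c * c' * c) := by
  have two : ∀ {x y x' y' : M}, Commute x y → Commute x' y → Commute x y' →
      (x * y) * (x' * y') * (x * y) = (x * x' * x) * (y * y' * y) := by
    intro x y x' y' e1 e2 e3
    calc (x * y) * (x' * y') * (x * y) = x * (y * x') * (y' * x) * y := by group
      _ = x * x' * (y * x) * y' * y := by rw [← e2.eq, ← e3.eq]; group
      _ = (x * x' * x) * (y * y' * y) := by rw [← e1.eq]; group
  rw [two (h4.mul_left h6) (h5.mul_left h7) (h8.mul_left h9), two h1 h2 h3]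

include C in
theorem nW_mem (o : Fin TwD4.spec.length) : nW chevD4 K (TwD4.O o).word ∈ twistedD4 K q := by
  obtain ⟨w0, w1, s1, n2, s0, s2, s3, m1, m3, m4, hlt, hcomm⟩ := word_tables
  revert o
  refine TwD4.fin_cases_spec ?_ ?_
  · have hP := C.mem_gen (Or.inl ⟨1, one_pow q, d4p2, by simp, rfl⟩)
    have hM := C.mem_gen (Or.inl ⟨-1, by rw [← C.hf, map_neg, map_one], d4m2, by simp, rfl⟩)
    have := Subgroup.mul_mem _ (Subgroup.mul_mem _ hP hM) hP
    simpa [w0, nW, nS, s1, nU, n2, wU] using this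
  · have hP := C.mem_gen (Or.inr ⟨1, (d4p1, d4p3, d4p4), by simp, rfl⟩)
    have hq1 : (-1 : K) ^ q = -1 := by rw [← C.hf, map_neg, map_one]
    have hM := C.mem_gen (Or.inr ⟨-1, (d4m1, d4m3, d4m4), by simp, rfl⟩)
    have := Subgroup.mul_mem _ (Subgroup.mul_mem _ hP hM) hP
    simp only [List.all_eq_true, Bool.and_eq_true, Nat.blt_eq, List.mem_cons, List.not_mem_nil,
      or_false] at hlt hcomm
    have S : TabOK chevD4 DataD4.tab := ⟨DataD4.facts, DataD4.chk_arrays, DataD4.chk_chain,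
      DataD4.short⟩
    have cm : ∀ a b, a < 24 → b < 24 → nullB DataD4.tab a b = true → ∀ x y : K,
        Commute (xU chevD4 a x) (xU chevD4 b y) := fun a b ha hb h x y => by
      have ha' : a < chevD4.nroots := TwD4.tables.1.symm ▸ ha
      have hb' : b < chevD4.nroots := TwD4.tables.1.symm ▸ hb
      simp only [nullB, Bool.and_eq_true, Bool.not_eq_true', List.isEmpty_iff] at h
      refine LacedInvol.commute_nil S.facts C.sig.hC ha' hb' (fun e => ?_) (fun e => ?_) ?_ x y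
      · have := h.1.1; rw [e] at this; simp at this
      · rw [neg_eq S.arr ha'] at e
        have := h.1.2; rw [e] at this; simp at this
      · rw [EvenInvol.termsT_eq S.arr S.chain S.short ha' hb', h.2]
    simp only [wU, List.map_cons, List.map_nil, List.prod_cons, List.prod_nil, mul_one, one_pow,
      pow_two q, pow_mul, hq1] at this
    rw [← mul_assoc (xU chevD4 d4p1 (1 : K)), ← mul_assoc (xU chevD4 d4m1 (-1 : K)), sandwich₃] at this
    · simpa [w1, nW, nS, s0, s2, s3, nU, m1, m3, m4, mul_assoc] using this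
    all_goals
      refine cm _ _ ?_ ?_ ?_ _ _
      · apply hlt; simp
      · apply hlt; simp
      · first
          | (apply hcomm.1 <;> simp)
          | (apply hcomm.2 <;> simp)

/-- The setting of ³D₄. -/
theorem setting : Setting DataD4.tab parD4 TwD4.spec C.f C.σ (twistedD4 K q) where
  tab := ⟨DataD4.facts, DataD4.chk_arrays, DataD4.chk_chain, DataD4.short⟩
  sys := C.sys
  lam _ := rfl
  nW_mem := nW_mem C
  tau_mem := tau_mem C

theorem orbits : orbitB DataD4.tab parD4 12 = true ∧ orbitB DataD4.tab parD4 17 = true ∧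
    orbitB DataD4.tab parD4 18 = true ∧ orbitB DataD4.tab parD4 14 = true ∧
    splitB DataD4.tab parD4 (orbR parD4 12) 12 = true ∧
    splitB DataD4.tab parD4 (orbR parD4 15) 15 = true ∧
    splitB DataD4.tab parD4 (orbR parD4 18) 18 = true ∧
    (moveB DataD4.tab parD4 TwD4.spec (orbR parD4 12) 15 [0] &&
      moveB DataD4.tab parD4 TwD4.spec (orbR parD4 17) 18 [0, 1] &&
      Nat.beq (imgW DataD4.tab TwD4.spec [0] 12) 15 &&
      Nat.beq (imgW DataD4.tab TwD4.spec [0, 1] 17) 18 &&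
      ((orbR parD4 12).all fun x => Nat.beq x 12 ||
        !Nat.beq (imgW DataD4.tab TwD4.spec [0] x) 15) &&
      ((orbR parD4 17).all fun x => Nat.beq x 17 ||
        !Nat.beq (imgW DataD4.tab TwD4.spec [0, 1] x) 18)) = true ∧
    scaleB DataD4.tab parD4 cert 12 (-1) = true ∧
    orbR parD4 12 = [12, 18, 13] ∧ orbR parD4 18 = [18, 13, 12] ∧
    parD4.rho 14 = 14 ∧ olen parD4 12 = 3 ∧ olen parD4 17 = 3 ∧ olen parD4 18 = 3 ∧
    cert.Q0 = 17 := by
  decide +kernel

theorem quad_tables : indB DataD4.tab SQ 14 = true ∧ indB DataD4.tab SQ 15 = true ∧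
    indB DataD4.tab SQ 16 = true ∧ indB DataD4.tab SQ 17 = true ∧
    trB DataD4.tab SQ 13 14 14 0 = true ∧ trB DataD4.tab SQ 13 14 15 0 = true ∧
    trB DataD4.tab SQ 13 14 16 1 = true ∧ trB DataD4.tab SQ 13 15 17 1 = true ∧
    trB DataD4.tab SQ 18 14 14 0 = true ∧ trB DataD4.tab SQ 18 14 15 0 = true ∧
    trB DataD4.tab SQ 18 14 16 0 = true ∧ trB DataD4.tab SQ 18 14 17 0 = true ∧
    trB DataD4.tab SQ 12 14 14 0 = true ∧ trB DataD4.tab SQ 12 14 15 1 = true ∧
    trB DataD4.tab SQ 12 16 17 1 = true ∧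
    parD4.rho 12 = 18 ∧ parD4.rho 18 = 13 ∧ parD4.eps 12 = 1 ∧ parD4.eps 18 = 1 ∧
    parD4.rho 13 = 12 ∧ parD4.eps 13 = 1 ∧
    splitB DataD4.tab parD4 SQ 14 = true ∧
    splitB DataD4.tab parD4 [15, 19, 16, 17, 20, 21, 22, 23] 15 = true ∧
    splitB DataD4.tab parD4 [17, 20, 21, 22, 23] 17 = true ∧
    orbR parD4 14 = [14] ∧ orbR parD4 15 = [15, 19, 16] ∧ orbR parD4 17 = [17, 20, 21] ∧
    restL parD4 cert.os 4 = [22, 23] ∧
    (cert.os.drop 4).all (fun r => Nat.beq (parD4.rho r) r) = true ∧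
    SQ = [14, 15, 19, 16, 17, 20, 21, 22, 23] := by
  decide +kernel

variable {H : Subgroup (GL chevD4.Idx K)}

theorem ok (r : ℕ) (hr : olen parD4 r = 3) (a : K) : OkA parD4 C.f r a := by
  simp only [OkA, hr, Function.iterate_succ, Function.iterate_zero, Function.comp_apply, id_eq]
  exact C.pow_three a

/-- An orbit element at `18`, read at `12`. -/
theorem eighteen (b : K) :
    orbX chevD4 parD4 C.f 18 b = orbX chevD4 parD4 C.f 12 (C.f (C.f b)) := by
  have S := setting C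
  obtain ⟨-, -, ho18, -, h12, -, -, -, -, e12, e18, -, -, -, hl18, -⟩ := orbits
  obtain ⟨-, -, -, -, -, -, -, -, -, -, -, -, -, -, -, -, r2, -, p2, r3, p3, -⟩ := quad_tables
  obtain ⟨a, -, ea, hch⟩ := S.orb_only h12 (S.orbX_mem ho18 (ok C 18 hl18 b))
    (S.orbX_mem_closure ho18 b (Q := (· ∈ orbR parD4 12)) fun i hi => by
      rw [e18] at hi; rw [e12]; simp at hi ⊢; tauto)
  rw [ea]
  congr 1
  have hind : indB DataD4.tab (orbR parD4 12) 12 = true := by
    simp only [splitB, Bool.and_eq_true, List.all_eq_true] at h12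
    exact h12.1.2 _ (mem_orbR_self parD4 12)
  have h2 := S.orbX_ch ho18 (L := orbR parD4 12)
    (fun i hi => by rw [e18] at hi; rw [e12]; simp at hi ⊢; tauto)
    (i := 12) (by rw [e18]; simp) hind b
  rw [hch.unique S.tab S.hC hind h2]
  simp [crd, r2, S.coef_eq, p2, p3]

variable (hHG : H ≤ twistedD4 K q) (hMH : ∀ g, Rat chevD4 C.f (twistedD4 K q) g → g ∈ H)
include hHG hMH

/-- The parameters at `12` are closed under `a ↦ a^(q + q²)`. -/
theorem quad {a : K} (ha : orbX chevD4 parD4 C.f 12 a ∈ H) :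
    orbX chevD4 parD4 C.f 12 (C.f a * C.f (C.f a)) ∈ H := by
  have S := setting C
  have hT := S.tab
  have hC := S.hC
  obtain ⟨ho12, ho17, ho18, ho14, -, h15, h18, htr, -, -, -, hρ14, hl12, hl17, -, -⟩ := orbits
  simp only [Bool.and_eq_true, Nat.beq_eq] at htr
  obtain ⟨⟨⟨⟨⟨hm15, hm18⟩, hi15⟩, hi18⟩, hj15⟩, hj18⟩ := htr
  obtain ⟨i14, i15, i16, i17, a14, a15, a16, a17, b14, b15, b16, b17, c14, c15, c17, r1, r2, p1,
    p2, -, -, s14, s15, s17, o14, o15, o17, hrest, hlong, hSQ⟩ := quad_tables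
  have hX : orbX chevD4 parD4 C.f 12 a =
      xU chevD4 12 a * xU chevD4 18 (C.f a) * xU chevD4 13 (C.f (C.f a)) := by
    simp [orbX, r1, r2, S.coef_eq, p1, p2]
  set a₂ := C.f a with ha₂
  set a₃ := C.f a₂ with ha₃
  set z := xU chevD4 14 (-1 : K) with hz
  have z14 : IsCh chevD4 SQ 14 z (-1) := by
    simpa using IsCh.gen hT hC i14 (s := 14) (by simp [hSQ]) (-1 : K)
  have z15 : IsCh chevD4 SQ 15 z 0 := by
    simpa using IsCh.gen hT hC i15 (s := 14) (by simp [hSQ]) (-1 : K)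
  have z16 : IsCh chevD4 SQ 16 z 0 := by
    simpa using IsCh.gen hT hC i16 (s := 14) (by simp [hSQ]) (-1 : K)
  have z17 : IsCh chevD4 SQ 17 z 0 := by
    simpa using IsCh.gen hT hC i17 (s := 14) (by simp [hSQ]) (-1 : K)
  have u14 := IsCh.conj hT hC i14 i14 a14 a₃ z14 z14
  have u15 := IsCh.conj hT hC i14 i15 a15 a₃ z14 z15
  have u16 := IsCh.conj hT hC i14 i16 a16 a₃ z14 z16
  have u17 := IsCh.conj hT hC i15 i17 a17 a₃ z15 z17
  simp only [Int.cast_zero, Int.cast_one, zero_mul, add_zero, zero_add, one_mul, mul_zero]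
    at u14 u15 u16 u17
  have v14 := IsCh.conj hT hC i14 i14 b14 a₂ u14 u14
  have v15 := IsCh.conj hT hC i14 i15 b15 a₂ u14 u15
  have v16 := IsCh.conj hT hC i14 i16 b16 a₂ u14 u16
  have v17 := IsCh.conj hT hC i14 i17 b17 a₂ u14 u17
  simp only [Int.cast_zero, zero_mul, add_zero] at v14 v15 v16 v17
  have w14 := IsCh.conj hT hC i14 i14 c14 a v14 v14
  have w15 := IsCh.conj hT hC i14 i15 c15 a v14 v15
  have w17 := IsCh.conj hT hC i16 i17 c17 a v16 v17
  simp only [Int.cast_zero, Int.cast_one, zero_mul, add_zero, zero_add, one_mul] at w14 w15 w17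
  have one : ∀ {k : ℕ}, indB DataD4.tab SQ k = true →
      IsCh chevD4 SQ k (xU chevD4 14 (1 : K)) (if 14 = k then 1 else 0) := fun hk =>
    IsCh.gen hT hC hk (s := 14) (by simp [hSQ]) 1
  set g' := xU chevD4 14 (1 : K) * (orbX chevD4 parD4 C.f 12 a * z *
    (orbX chevD4 parD4 C.f 12 a)⁻¹) with hg'
  have eg : g' = xU chevD4 14 (1 : K) * (xU chevD4 12 a * (xU chevD4 18 a₂ *
      (xU chevD4 13 a₃ * z * (xU chevD4 13 a₃)⁻¹) * (xU chevD4 18 a₂)⁻¹) *
        (xU chevD4 12 a)⁻¹) := by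
    rw [hg', hX]; group
  have g14 : IsCh chevD4 SQ 14 g' 0 := by
    have := (one i14).mul hT hC i14 w14
    rw [← eg] at this; simpa using this
  have g15 : IsCh chevD4 SQ 15 g' (-a) := by
    have := (one i15).mul hT hC i15 w15
    rw [← eg] at this; simpa using this
  have g17 : IsCh chevD4 SQ 17 g' (-(a * a₃)) := by
    have := (one i17).mul hT hC i17 w17
    rw [← eg] at this; simpa [mul_comm, mul_left_comm] using this
  have hx14 : ∀ t : K, C.f t = t → Rat chevD4 C.f (twistedD4 K q) (xU chevD4 14 t) := fun t ht => by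
    simpa [Rat, orbX, hρ14] using S.orbX_rat ho14 ht
  have hz' : z ∈ H := hMH z (hx14 _ (by rw [map_neg, map_one]))
  have hgH : g' ∈ H := Subgroup.mul_mem _ (hMH _ (hx14 1 (map_one _)))
    (Subgroup.mul_mem _ (Subgroup.mul_mem _ ha hz') (Subgroup.inv_mem _ ha))
  obtain ⟨e₀, -, he₀, w₁, hw₁G, hw₁, ew₁⟩ := S.split s14 (hHG hgH) (g14.mem hT hC i14)
  rw [he₀.unique hT hC i14 g14, S.orbX_zero ho14, one_mul] at ew₁
  subst ew₁
  have hw₁' : g' ∈ rootClosure chevD4 K (· ∈ ([15, 19, 16, 17, 20, 21, 22, 23] : List ℕ)) :=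
    rootClosure_mono (fun i _ hi => by
      have h1 := hi.1; have h2 := hi.2
      rw [hSQ] at h1; rw [o14] at h2
      simp at h1 h2 ⊢; tauto) hw₁
  obtain ⟨e₁, he₁ok, he₁, w₂, hw₂G, hw₂, ew₂⟩ := S.split s15 (hHG hgH) hw₁'
  have sub1 : ∀ x ∈ ([15, 19, 16, 17, 20, 21, 22, 23] : List ℕ), x ∈ SQ := fun x hx => by
    rw [hSQ]; simp at hx ⊢; tauto
  rw [(he₁.mono hT sub1).unique hT hC i15 g15] at ew₂ he₁ok
  have ho15 : orbitB DataD4.tab parD4 15 = true := by
    have := h15; simp only [splitB, Bool.and_eq_true] at this; exact this.1.1.1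
  have hX15 : orbX chevD4 parD4 C.f 15 (-a) ∈ H := by
    have hneg : orbX chevD4 parD4 C.f 12 (-a) ∈ H := by
      have := Subgroup.inv_mem _ ha
      rwa [inv_eq_of_mul_eq_one_right (a := orbX chevD4 parD4 C.f 12 a)
        (b := orbX chevD4 parD4 C.f 12 (-a)) (by
          rw [S.orbX_add ho12, add_neg_cancel, S.orbX_zero ho12])] at this
    exact S.transfer cert_base hMH ho12 h15 hm15 hi15 hj15 (ok C 12 hl12 _) hneg
  have hw₂H : w₂ ∈ H := by
    have := Subgroup.mul_mem _ (Subgroup.inv_mem _ hX15) hgH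
    rwa [ew₂, inv_mul_cancel_left] at this
  have hw₂' : w₂ ∈ rootClosure chevD4 K (· ∈ ([17, 20, 21, 22, 23] : List ℕ)) :=
    rootClosure_mono (fun i _ hi => by
      have h1 := hi.1; have h2 := hi.2
      rw [o15] at h2
      simp at h1 h2 ⊢; tauto) hw₂
  have sub2 : ∀ x ∈ ([17, 20, 21, 22, 23] : List ℕ), x ∈ SQ := fun x hx => by
    rw [hSQ]; simp at hx ⊢; tauto
  obtain ⟨e₂, he₂ok, he₂, w₃, hw₃G, hw₃, ew₃⟩ := S.split s17 (hHG hw₂H) hw₂'
  have h17 : IsCh chevD4 SQ 17 w₂ (-(a * a₃)) := by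
    have h1 : IsCh chevD4 SQ 17 (orbX chevD4 parD4 C.f 15 (-a)) 0 := IsCh.zero hT hC i17
      (S.orbX_mem_closure ho15 _ fun i hi => by
        rw [o15] at hi; rw [hSQ]; simp at hi ⊢; omega)
    have h2 := (h1.inv hT hC i17).mul hT hC i17 g17
    rwa [ew₂, inv_mul_cancel_left, neg_zero, zero_add] at h2
  rw [(he₂.mono hT sub2).unique hT hC i17 h17] at ew₃ he₂ok
  have hw₃R : gMap chevD4 C.f w₃ = w₃ := S.long_rat cert_push 4 hlong w₃ hw₃G (by
    rw [hrest]
    refine rootClosure_mono (fun i _ hi => ?_) hw₃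
    have h1 := hi.1; have h2 := hi.2
    rw [o17] at h2
    simp at h1 h2 ⊢; tauto)
  have hX17 : orbX chevD4 parD4 C.f 17 (-(a * a₃)) ∈ H := by
    have := Subgroup.mul_mem _ hw₂H (Subgroup.inv_mem _ (hMH _ ⟨hw₃G, hw₃R⟩))
    rwa [ew₃, mul_inv_cancel_right] at this
  have hX18 := S.transfer cert_base hMH ho17 h18 hm18 hi18 hj18 (ok C 17 hl17 _) hX17
  rw [eighteen C] at hX18
  have := Subgroup.inv_mem _ hX18
  rw [inv_eq_of_mul_eq_one_right (a := orbX chevD4 parD4 C.f 12 (C.f (C.f (-(a * a₃)))))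
    (b := orbX chevD4 parD4 C.f 12 (C.f a * C.f (C.f a))) (by
      rw [S.orbX_add ho12, show C.f (C.f (-(a * a₃))) + C.f a * C.f (C.f a) = 0 by
        simp only [ha₃, ha₂, map_neg, map_mul, C.pow_three]; ring, S.orbX_zero ho12])] at this
  exact this

/-- An irrational short root element and the rational points generate the group. -/
theorem generate (h : ∃ a, OkA parD4 C.f cert.Q0 a ∧ C.f a ≠ a ∧
    orbX chevD4 parD4 C.f cert.Q0 a ∈ H) : twistedD4 K q ≤ H := by
  have S := setting C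
  obtain ⟨ho12, ho17, -, -, h12, -, h18, htr, hsc, -, -, -, -, -, -, hQ0⟩ := orbits
  simp only [Bool.and_eq_true, Nat.beq_eq] at htr
  obtain ⟨⟨⟨⟨⟨-, hm18⟩, -⟩, hi18⟩, -⟩, hj18⟩ := htr
  obtain ⟨c₀, hc, hfc₀, hcH⟩ := h
  rw [hQ0] at hc hcH
  have hcH' := S.transfer cert_base hMH ho17 h18 hm18 hi18 hj18 hc hcH
  rw [eighteen C] at hcH'
  set c := C.f (C.f c₀) with hcdef
  have hfc : C.f c ≠ c := fun e => hfc₀ (C.f.injective (C.f.injective (by
    rw [← hcdef]; exact e)))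
  set c₁ := C.f c with hc₁
  set c₂ := C.f c₁ with hc₂
  have f₂ : C.f c₂ = c := C.pow_three c
  have h01 : c₁ - c ≠ 0 := sub_ne_zero.2 hfc
  have h12' : c₂ - c₁ ≠ 0 := sub_ne_zero.2 fun e => hfc (C.f.injective e)
  have h20 : c - c₂ ≠ 0 := sub_ne_zero.2 fun e => hfc (by
    calc C.f c = C.f c₂ := by rw [← e]
      _ = c := f₂)
  have scal : ∀ {x l : K}, orbX chevD4 parD4 C.f 12 x ∈ H → C.f l = l →
      orbX chevD4 parD4 C.f 12 (l * x) ∈ H := fun hx hl =>
    S.scale cert_base hMH cert_rad cert_fus ho12 hsc (Or.inr rfl) hx hl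
  have add : ∀ {x y : K}, orbX chevD4 parD4 C.f 12 x ∈ H → orbX chevD4 parD4 C.f 12 y ∈ H →
      orbX chevD4 parD4 C.f 12 (x + y) ∈ H := fun hx hy => by
    rw [← S.orbX_add ho12]; exact Subgroup.mul_mem _ hx hy
  have rat : ∀ {x : K}, C.f x = x → orbX chevD4 parD4 C.f 12 x ∈ H := fun hx =>
    hMH _ (S.orbX_rat ho12 hx)
  have hsq : orbX chevD4 parD4 C.f 12 (c * c) ∈ H := by
    have h1 := quad C hHG hMH hcH'
    have he2 : C.f (-(c * c₁ + c₁ * c₂ + c₂ * c)) = -(c * c₁ + c₁ * c₂ + c₂ * c) := by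
      simp only [map_neg, map_add, map_mul, ← hc₁, ← hc₂, f₂]; ring
    have he1 : C.f (c + c₁ + c₂) = c + c₁ + c₂ := by
      simp only [map_add, ← hc₁, ← hc₂, f₂]; ring
    have h2 := add (add h1 (rat he2)) (scal hcH' he1)
    rwa [show c₁ * c₂ + -(c * c₁ + c₁ * c₂ + c₂ * c) + (c + c₁ + c₂) * c = c * c by ring] at h2
  have hall : ∀ a, OkA parD4 C.f 12 a → orbX chevD4 parD4 C.f 12 a ∈ H := by
    intro z _
    set z₁ := C.f z with hz₁
    set z₂ := C.f z₁ with hz₂
    have g₂ : C.f z₂ = z := C.pow_three z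
    set w := ((z₁ - z) / (c₁ - c) - (z₂ - z₁) / (c₂ - c₁)) / (c - c₂) with hw
    have hfw : C.f w = w := by
      simp only [hw, map_div₀, map_sub, ← hc₁, ← hc₂, ← hz₁, ← hz₂, f₂, g₂]
      field_simp
      ring
    set y := (z₁ - z) / (c₁ - c) - w * (c + c₁) with hy
    have hwe : w * (c - c₂) = (z₁ - z) / (c₁ - c) - (z₂ - z₁) / (c₂ - c₁) := by
      rw [hw, div_mul_cancel₀ _ h20]
    have hfy : C.f y = y := by
      simp only [hy, map_sub, map_mul, map_div₀, map_add, hfw, ← hc₁, ← hc₂, ← hz₁, ← hz₂]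
      linear_combination hwe
    have hye : (z₁ - z) = (y + w * (c + c₁)) * (c₁ - c) := by
      rw [hy, sub_add_cancel, div_mul_cancel₀ _ h01]
    set x := z - y * c - w * (c * c) with hx
    have hfx : C.f x = x := by
      simp only [hx, map_sub, map_mul, hfy, hfw, ← hc₁, ← hz₁]
      linear_combination hye
    have := add (add (rat hfx) (scal hcH' hfy)) (scal hsq hfw)
    rwa [show x + y * c + w * (c * c) = z by rw [hx]; ring] at this
  rw [C.gen_eq, Subgroup.closure_le]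
  rintro g ⟨w, hw, rfl⟩
  have hG := C.mem_gen hw
  have tabs : (∀ r ∈ [d4p2, d4m2], pathB DataD4.tab TwD4.spec cert r = true) ∧
      ∀ rs ∈ [(d4p1, d4p3, d4p4), (d4m1, d4m3, d4m4)],
        [rs.1, rs.2.1, rs.2.2] ∈ moves.map Prod.fst ∧ rs.1 < chevD4.nroots ∧
          rs.2.1 < chevD4.nroots ∧ rs.2.2 < chevD4.nroots := by
    decide +kernel
  rcases hw with ⟨t, ht, r, hr, rfl⟩ | ⟨t, rs, hrs, rfl⟩
  · have := hMH _ (S.path_rat cert_base (tabs.1 r hr) ((C.hf t).trans ht)).2.1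
    simpa [wU] using this
  · obtain ⟨hm, h1, h2, h3⟩ := tabs.2 rs hrs
    obtain ⟨e, he, he'⟩ := List.mem_map.1 hm
    refine S.move_mem cert_base hMH h12 hall (List.all_eq_true.1 moves_ok e he) hG ?_
    rw [he']
    simpa [wU] using Subgroup.mul_mem _
      (xU_mem_rootClosure (P := (· ∈ [rs.1, rs.2.1, rs.2.2])) h1 (by simp) t)
      (Subgroup.mul_mem _
        (xU_mem_rootClosure (P := (· ∈ [rs.1, rs.2.1, rs.2.2])) h2 (by simp) (t ^ q))
        (xU_mem_rootClosure (P := (· ∈ [rs.1, rs.2.1, rs.2.2])) h3 (by simp) (t ^ q ^ 2)))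

omit hHG hMH in
include C in
theorem subfield_maximal (M : Subgroup (GL chevD4.Idx K))
    (hM : ∀ g : GL chevD4.Idx K, g ∈ M ↔ g ∈ twistedD4 K q ∧ ∀ i j : chevD4.Idx,
      ((g : Matrix chevD4.Idx chevD4.Idx K) i j) ^ q = (g : Matrix chevD4.Idx chevD4.Idx K) i j) :
    M ≠ twistedD4 K q ∧
      ∀ H : Subgroup (GL chevD4.Idx K), M ≤ H → H ≤ twistedD4 K q → H = M ∨ H = twistedD4 K q := by
  obtain ⟨a, ha⟩ := exists_not_fixed C.hf C.q_gt (by norm_num) C.card
  obtain ⟨-, -, -, -, h12, -, -, -, -, -, -, -, hl12, -⟩ := orbits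
  exact (setting C).maximal cert_ok h12 (ok C 12 hl12 a) ha
    (fun H hHG hMH h => generate C hHG hMH h) fun g => (hM g).trans
      ⟨fun h => ⟨h.1, (gMap_fixed_iff C.hf g).1 h.2⟩, fun h => ⟨h.1, (gMap_fixed_iff C.hf g).2 h.2⟩⟩

end CfsgLib.Chev.SubfieldMax.D4
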