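import Cfsg.Agent.Lib.Known.SubfieldMax.Generate
import Cfsg.Agent.Lib.Chev.Twist.E6

/-!
# The certificate for the rational points of the twisted groups on the tables of type E6

Computed data, checked by the kernel against the tables.
-/

set_option autoImplicit false
set_option maxRecDepth 100000
set_option Elab.async false

namespace CfsgLib.Chev.SubfieldMax.E6

open Cfsg.Lie CfsgLib.Chev.Table

/-- The certificate. -/
def cert : Cert where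
  theta := 71
  i0 := 1
  o0 := 0
  Q := [46, 47, 48, 49, 50, 51, 52, 53, 54, 55, 61, 62, 63, 64, 65, 66, 67, 68, 69, 70, 71]
  LQ := [46, 47, 51, 53, 63, 65, 69, 70]
  negS := [15, 29, 32, 34, 35]
  os := [36, 37, 39, 46, 38, 40, 47, 41, 44, 48, 45, 49, 51, 52, 53, 60, 54, 63, 55, 65, 66, 69, 70, 71]
  push := [
    some ⟨37, [38, 40, 41, 43, 44, 45, 47, 48, 49, 50, 51, 52, 53, 54, 55, 57, 58, 59, 60, 61, 62, 63, 64, 65, 66, 67, 68, 69, 70, 71], 38,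
      [(37, 36, 1), (42, 36, 0)]⟩,
    some ⟨36, [38, 40, 41, 43, 44, 45, 47, 48, 49, 50, 51, 52, 53, 54, 55, 57, 58, 59, 60, 61, 62, 63, 64, 65, 66, 67, 68, 69, 70, 71], 38,
      [(36, 37, (-1)), (56, 37, 0)]⟩,
    none,
    none,
    some ⟨39, [40, 41, 43, 44, 45, 47, 48, 49, 50, 51, 52, 53, 54, 55, 58, 59, 60, 61, 62, 63, 64, 65, 66, 67, 68, 69, 70, 71], 41,
      [(39, 38, 1)]⟩,
    some ⟨36, [41, 44, 45, 47, 48, 49, 50, 51, 52, 53, 54, 55, 58, 59, 60, 61, 62, 63, 64, 65, 66, 67, 68, 69, 70, 71], 41,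
      [(36, 40, (-1)), (56, 40, 0)]⟩,
    none,
    some ⟨37, [44, 45, 48, 49, 50, 51, 52, 53, 54, 55, 59, 60, 61, 62, 63, 64, 65, 66, 67, 68, 69, 70, 71], 45,
      [(37, 41, 0), (42, 41, 1)]⟩,
    none,
    some ⟨36, [45, 49, 51, 52, 53, 54, 55, 59, 60, 61, 62, 63, 64, 65, 66, 67, 68, 69, 70, 71], 49,
      [(36, 48, (-1)), (56, 48, 0)]⟩,
    some ⟨46, [49, 51, 52, 53, 54, 55, 60, 61, 62, 63, 64, 65, 66, 67, 68, 69, 70, 71], 52,
      [(46, 45, (-1))]⟩,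
    some ⟨37, [51, 52, 53, 54, 55, 60, 62, 63, 64, 65, 66, 67, 68, 69, 70, 71], 52,
      [(37, 49, 0), (42, 49, (-1))]⟩,
    none,
    some ⟨39, [53, 54, 55, 60, 63, 64, 65, 66, 67, 68, 69, 70, 71], 54,
      [(39, 52, (-1))]⟩,
    none,
    none,
    some ⟨37, [55, 63, 65, 66, 67, 68, 69, 70, 71], 55,
      [(37, 54, (-1)), (42, 54, 0)]⟩,
    none,
    some ⟨36, [65, 66, 68, 69, 70, 71], 66,
      [(36, 55, 0), (56, 55, 1)]⟩,
    none,
    none,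
    none,
    none,
    none]
  Q0 := 66
  Lo := [36, 37, 39, 38, 40, 41, 44, 45, 60]
  kills := [⟨51, 52, 36, 1⟩, ⟨47, 48, 37, 1⟩, ⟨46, 47, 39, 1⟩, ⟨47, 49, 38, 1⟩, ⟨46, 48, 40, 1⟩, ⟨46, 49, 41, 1⟩, ⟨46, 51, 44, (-1)⟩, ⟨46, 52, 45, (-1)⟩, ⟨46, 63, 60, (-1)⟩]
  wts := [⟨48, 46, 40, 1⟩, ⟨49, 46, 41, 1⟩]
  ders := [(46, 39, 47), (46, 40, 48), (46, 41, 49), (46, 43, 50), (46, 44, 51), (46, 58, 61), (46, 60, 63), (47, 37, 48), (47, 38, 49), (47, 42, 50), (47, 57, 61), (48, 36, 49), (48, 57, 62), (48, 58, 64), (48, 60, 66), (48, 68, 71), (49, 42, 52), (49, 43, 54), (49, 44, 55), (49, 59, 66), (49, 67, 71), (50, 56, 61), (56, 45, 60)]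
  combs := [(1, 47, 46), (2, 51, 47), (3, 63, 51)]
  lifts := [⟨39, 0, 46, 47, 47, (-1)⟩, ⟨44, 0, 46, 51, 51, 1⟩, ⟨46, 1, 39, 47, 47, 1⟩, ⟨47, 2, 42, 51, 50, 1⟩, ⟨51, 1, 39, 53, 53, 1⟩, ⟨53, 3, 56, 65, 64, (-1)⟩, ⟨60, 0, 46, 63, 63, 1⟩, ⟨63, 1, 39, 65, 65, 1⟩, ⟨65, 2, 42, 69, 68, 1⟩, ⟨69, 1, 39, 70, 70, 1⟩, ⟨70, 0, 46, 71, 71, 1⟩]
  toL := [(46, [1, 2, 3, 1, 2, 1, 0]), (47, [2, 3, 1, 2, 1, 0]), (51, [3, 1, 2, 1, 0]), (53, [3, 2, 1, 0]), (63, [1, 2, 1, 0]), (65, [2, 1, 0]), (69, [1, 0]), (70, [0]), (25, [0, 1, 2, 3, 1, 2, 1, 0]), (39, [2, 3, 0, 1, 2, 1, 0]), (32, [1, 2, 3, 0, 1, 2, 1, 0])]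
  w0 := [0, 1, 2, 3, 1, 2, 0, 1, 2, 3, 0, 1, 2, 1, 0]

theorem cert_base : baseB DataE6.tab parE6 TwE6.spec cert = true := by decide +kernel

theorem cert_push : pushB DataE6.tab parE6 cert.os cert.push cert.Q0 = true := by decide +kernel

theorem cert_rad : radB DataE6.tab parE6 TwE6.spec cert = true := by decide +kernel

theorem cert_cent : centB DataE6.tab parE6 cert = true := by decide +kernel

theorem cert_fus : fusB DataE6.tab parE6 TwE6.spec cert = true := by decide +kernel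

theorem cert_ok : certB DataE6.tab parE6 TwE6.spec cert = true := by
  simp only [certB, cert_base, cert_push, cert_rad, cert_cent, cert_fus, Bool.and_self]

/-- The words carrying the short generators to the orbit of the root 48. -/
def moves : List (List ℕ × List ℕ) := [([56, 36], [3, 0, 1, 2]), ([15, 35], [0, 1, 2, 3, 2]), ([42, 37], [0, 1]), ([29, 34], [0, 1, 2])]

theorem moves_ok : (moves.all fun e => moveB DataE6.tab parE6 TwE6.spec e.1 48 e.2) = true := by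
  decide +kernel

end CfsgLib.Chev.SubfieldMax.E6
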