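import Cfsg.Agent.Lib.Known.SubfieldMax.Common
import Cfsg.Agent.Lib.Known.SubfieldMax.E6Cert
import Cfsg.Agent.Lib.Chev.Twist.E6Torus

/-!
# The rational points of ²E₆(q) form a maximal subgroup

The parameters of the short root elements in an intermediate group form a subspace over the
subfield, which has index two.
-/

set_option autoImplicit false
set_option maxRecDepth 20000
set_option synthInstance.maxSize 4000

namespace CfsgLib.Chev.SubfieldMax.E6

open Cfsg.Lie CfsgLib.Chev.Table CfsgLib.Chev.FixedPoints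

universe v

variable {K : Type v} [Field K] [Fintype K] {q : ℕ} (C : TwE6.Ctx K q)

theorem tau_mem (g : GL chevE6.Idx K) (hg : g ∈ twistedE6 K q) :
    gMap chevE6 C.f g ∈ twistedE6 K q := by
  have hF := DataE6.facts
  rw [C.gen_eq] at hg
  refine (Subgroup.closure_le (K := (twistedE6 K q).comap (gMap chevE6 C.f))).2 ?_ hg
  rintro x ⟨w, hw, rfl⟩
  have hlt := (C.gen_fixed w hw).2
  have e : gMap chevE6 C.f (wU chevE6 w) = wU chevE6 (w.map fun p => (p.1, C.f p.2)) := by
    rw [wU, wU, map_list_prod, List.map_map, List.map_map]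
    exact congrArg _ (List.map_congr_left fun p hp => gMap_xU hF C.f (hlt p hp) p.2)
  rw [SetLike.mem_coe, Subgroup.mem_comap, e]
  refine C.mem_gen ?_
  rcases hw with ⟨t, ht, r, hr, rfl⟩ | ⟨t, rs, hrs, rfl⟩
  · exact Or.inl ⟨C.f t, by rw [← map_pow, ht], r, hr, rfl⟩
  · exact Or.inr ⟨C.f t, rs, hrs, by simp [map_pow]⟩

/-- The setting of ²E₆. -/
theorem setting : Setting DataE6.tab parE6 TwE6.spec C.f C.σ (twistedE6 K q) where
  tab := ⟨DataE6.facts, DataE6.chk_arrays, DataE6.chk_chain, DataE6.short⟩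
  sys := C.sys
  lam _ := rfl
  nW_mem := C.nW_mem_G
  tau_mem := tau_mem C

theorem orbits : orbitB DataE6.tab parE6 66 = true ∧
    splitB DataE6.tab parE6 (orbR parE6 48) 48 = true ∧
    moveB DataE6.tab parE6 TwE6.spec (orbR parE6 66) 48 [3, 2, 1, 2, 3] = true ∧
    imgW DataE6.tab TwE6.spec [3, 2, 1, 2, 3] 66 = 48 ∧
    (orbR parE6 66).all (fun x => Nat.beq x 66 ||
      !Nat.beq (imgW DataE6.tab TwE6.spec [3, 2, 1, 2, 3] x) 48) = true ∧
    scaleB DataE6.tab parE6 cert 48 1 = true ∧ olen parE6 48 = 2 ∧ cert.Q0 = 66 := by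
  decide +kernel

theorem singles : ∀ r ∈ [e6p2, e6m2, e6p4, e6m4],
    pathB DataE6.tab TwE6.spec cert r = true := by
  decide +kernel

theorem pairs : ∀ rs ∈ [(e6p1, e6p6), (e6m1, e6m6), (e6p3, e6p5), (e6m3, e6m5)],
    [rs.1, rs.2] ∈ moves.map Prod.fst ∧ rs.1 < chevE6.nroots ∧ rs.2 < chevE6.nroots := by
  decide +kernel

theorem ok48 (a : K) : OkA parE6 C.f 48 a := by
  simp only [OkA, orbits.2.2.2.2.2.2.1, Function.iterate_succ, Function.iterate_zero,
    Function.comp_apply, id_eq]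
  exact C.pow_two a

/-- An irrational short root element and the rational points generate the group. -/
theorem generate {H : Subgroup (GL chevE6.Idx K)}
    (hMH : ∀ g, Rat chevE6 C.f (twistedE6 K q) g → g ∈ H)
    (h : ∃ a, OkA parE6 C.f cert.Q0 a ∧ C.f a ≠ a ∧ orbX chevE6 parE6 C.f cert.Q0 a ∈ H) :
    twistedE6 K q ≤ H := by
  have S := setting C
  obtain ⟨ho66, h48, hmv, himg, hinj, hsc, -, hQ0⟩ := orbits
  have ho48 : orbitB DataE6.tab parE6 48 = true := by
    have := h48; simp only [splitB, Bool.and_eq_true] at this; exact this.1.1.1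
  obtain ⟨c, hc, hfc, hcH⟩ := h
  rw [hQ0] at hc hcH
  have hc48 := S.transfer cert_base hMH ho66 h48 hmv himg hinj hc hcH
  have hall : ∀ a, OkA parE6 C.f 48 a → orbX chevE6 parE6 C.f 48 a ∈ H := by
    intro z _
    set y := (C.f z - z) / (C.f c - c) with hy
    have hne : C.f c - c ≠ 0 := sub_ne_zero.2 hfc
    have hfy : C.f y = y := by
      rw [hy, map_div₀, map_sub, map_sub, C.pow_two, C.pow_two, ← neg_sub (C.f z),
        ← neg_sub (C.f c), neg_div_neg_eq]
    have hy' : y * (C.f c - c) = C.f z - z := by rw [hy, div_mul_cancel₀ _ hne]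
    set x := z - y * c with hx
    have hfx : C.f x = x := by
      rw [hx, map_sub, map_mul, hfy]
      linear_combination -hy'
    have h1 := hMH _ (S.orbX_rat ho48 hfx)
    have h2 := S.scale cert_base hMH cert_rad cert_fus ho48 hsc (Or.inl rfl) hc48 hfy
    have := Subgroup.mul_mem _ h1 h2
    rwa [S.orbX_add ho48, show x + y * c = z by rw [hx]; ring] at this
  rw [C.gen_eq, Subgroup.closure_le]
  rintro g ⟨w, hw, rfl⟩
  have hG := C.mem_gen hw
  rcases hw with ⟨t, ht, r, hr, rfl⟩ | ⟨t, rs, hrs, rfl⟩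
  · have := hMH _ (S.path_rat cert_base (singles r hr) ((C.hf t).trans ht)).2.1
    simpa [wU] using this
  · obtain ⟨hm, h1, h2⟩ := pairs rs hrs
    obtain ⟨e, he, he'⟩ := List.mem_map.1 hm
    refine S.move_mem cert_base hMH h48 hall (List.all_eq_true.1 moves_ok e he) hG ?_
    rw [he']
    simpa [wU] using Subgroup.mul_mem _
      (xU_mem_rootClosure (P := (· ∈ [rs.1, rs.2])) h1 (by simp) t)
      (xU_mem_rootClosure (P := (· ∈ [rs.1, rs.2])) h2 (by simp) (t ^ q))

include C in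
theorem subfield_maximal (M : Subgroup (GL chevE6.Idx K))
    (hM : ∀ g : GL chevE6.Idx K, g ∈ M ↔ g ∈ twistedE6 K q ∧ ∀ i j : chevE6.Idx,
      ((g : Matrix chevE6.Idx chevE6.Idx K) i j) ^ q = (g : Matrix chevE6.Idx chevE6.Idx K) i j) :
    M ≠ twistedE6 K q ∧
      ∀ H : Subgroup (GL chevE6.Idx K), M ≤ H → H ≤ twistedE6 K q → H = M ∨ H = twistedE6 K q := by
  obtain ⟨a, ha⟩ := exists_not_fixed C.hf C.q_gt (by norm_num) C.card
  exact (setting C).maximal cert_ok orbits.2.1 (ok48 C a) ha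
    (fun H _ hMH h => generate C hMH h) fun g => (hM g).trans
      ⟨fun h => ⟨h.1, (gMap_fixed_iff C.hf g).1 h.2⟩, fun h => ⟨h.1, (gMap_fixed_iff C.hf g).2 h.2⟩⟩

end CfsgLib.Chev.SubfieldMax.E6
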