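import Cfsg.Agent.Lib.Known.SubfieldMax.Centralizer

/-!
# An intermediate group with rational unipotent elements is rational

If the positive unipotent elements of `H` are rational, so are the conjugates of `x_θ(1)` under
`H`, and then so is `H`.
-/

set_option autoImplicit false
set_option synthInstance.maxSize 4000

namespace CfsgLib.Chev.SubfieldMax

open Cfsg.Lie CfsgLib.Chev.Table CfsgLib.Chev.EvenInvol CfsgLib.Chev.FixedPoints

universe v

/-- The roots above `r`, coefficient by coefficient. -/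
def arL (T : Tab) (P : TwPar) (C : Cert) (r : ℕ) : List ℕ :=
  (allP P C).filter fun x => allBelow T.rank fun j => decide (T.co r j ≤ T.co x j)

/-- Two root subgroups commute by the tables. -/
def nullB (T : Tab) (r s : ℕ) : Bool :=
  !Nat.beq s r && !Nat.beq s (T.neg r) && (termsT T r s).isEmpty

/-- The check of a raising step. -/
def liftB (T : Tab) (P : TwPar) (spec : List (List ℕ × List ℕ)) (C : Cert) (e : LiftStep) : Bool :=
  Nat.blt e.o spec.length && Nat.blt e.r T.nroots && Nat.ble (T.nroots / 2) e.r &&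
    splitB T P (allP P C) e.K && actB T (allP P C) (arL T P C e.r) e.K e.r e.t e.N &&
    (e.N == 1 || e.N == -1) && !Nat.beq e.t e.r &&
    Nat.beq (imgW T spec [e.o] e.r) e.r' &&
    decide (htT T e.r < htT T C.theta) && decide (htT T e.r < htT T e.r') &&
    (Nat.beq e.r' C.theta || C.lifts.any fun x => Nat.beq x.r e.r') &&
    (allP P C).all fun x => (orbR P e.K).elem x || Nat.ble (T.nroots / 2) (imgW T spec [e.o] x)

/-- A negative fixed root is attached to a positive long root or to none. -/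
def clsB (T : Tab) (C : Cert) (s : ℕ) : Bool :=
  Nat.beq s (T.neg C.theta) || nullB T s C.theta ||
    !Nat.beq s C.theta && !Nat.beq C.theta (T.neg s) &&
      match termsT T s C.theta with
      | [c] => Nat.beq c.2.2.1 1 && Nat.beq c.2.2.2 1 && (c.2.1 == 1 || c.2.1 == -1) &&
          C.lifts.any (fun x => Nat.beq x.r c.1) && nullB T s c.1 && nullB T C.theta c.1
      | _ => false

/-- The checks of the fusion. -/
def fusB (T : Tab) (P : TwPar) (spec : List (List ℕ × List ℕ)) (C : Cert) : Bool :=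
  C.lifts.all (fun e => liftB T P spec C e) &&
  allBelow (T.nroots / 2) (fun s => !Nat.beq (P.rho s) s || clsB T C s) &&
  (let a := T.smp C.i0
   Nat.beq (P.rho a) a && splitB T P (allP P C) a && C.LQ.elem a &&
    pathB T spec C (T.neg a) &&
    ((allP P C).all fun x => Nat.beq x a || Nat.ble (T.nroots / 2) (imgW T spec [C.o0] x)) &&
    (let s := imgW T spec [C.o0] (T.neg C.theta)
     Nat.blt s (T.nroots / 2) && Nat.beq (P.rho s) s && !Nat.beq s (T.neg C.theta))) &&
  C.w0.all (fun o => Nat.blt o spec.length) &&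
  C.Q.all fun x => Nat.blt (imgW T spec C.w0 x) (T.nroots / 2)

variable {D : ChevalleyDatum} {T : Tab} {P : TwPar} {spec : List (List ℕ × List ℕ)}
  {K : Type v} [Field K] {f : K →+* K} {σ : ↥(D.group K) →* GL D.Idx K}
  {G : Subgroup (GL D.Idx K)}

variable (S : Setting T P spec f σ G) {C : Cert} (hB : baseB T P spec C = true)
include S hB

omit hB in
theorem Setting.null_commute {r s : ℕ} (hr : r < D.nroots) (hs : s < D.nroots)
    (h : nullB T r s = true) (a b : K) : Commute (xU D r a) (xU D s b) := by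
  simp only [nullB, Bool.and_eq_true, Bool.not_eq_true', List.isEmpty_iff] at h
  refine LacedInvol.commute_nil S.tab.facts S.hC hr hs (fun e => ?_) (fun e => ?_) ?_ a b
  · have := h.1.1; rw [e] at this; simp at this
  · rw [neg_eq S.tab.arr hr] at e
    have := h.1.2; rw [e] at this; simp at this
  · rw [termsT_eq S.tab.arr S.tab.chain S.tab.short hr hs, h.2]

/-- A rational element of the torus scales the root elements of the highest root. -/
theorem Setting.torus (hF' : fusB T P spec C = true) (hR : radB T P spec C = true) {c : Kˣ}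
    (hc : f (c : K) = (c : K)) :
    ∃ m, Rat D f G m ∧ ∀ t : K, m * xU D C.theta t * m⁻¹ = xU D C.theta ((c : K) * t) := by
  have hF := S.tab.facts
  have hd := S.dom hB
  have hi := hd.i0_lt
  simp only [fusB, Bool.and_eq_true, List.elem_eq_mem, decide_eq_true_eq] at hF'
  obtain ⟨⟨⟨-, ⟨⟨⟨-, haLQ⟩, hneg⟩, -⟩, -⟩, -⟩, -⟩ := hF'
  simp only [radB, Bool.and_eq_true, List.all_eq_true] at hR
  have hpos : pathB T spec C (T.smp C.i0) = true := (hR.1.1.1.1 _ haLQ).2
  have ha : D.simple C.i0 < D.nroots := hF.simple_lt' hi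
  have hna : D.neg (D.simple C.i0) = T.neg (T.smp C.i0) := by
    rw [simple_eq S.tab.arr hi, neg_eq S.tab.arr (simple_eq S.tab.arr hi ▸ ha)]
  have hr : ∀ t : K, f t = t → Rat D f G (nU D (D.simple C.i0) t) := by
    intro t ht
    have h1 := (S.path_rat hB hpos ht).2.1
    have h2 := (S.path_rat hB hneg (t := -t⁻¹) (by rw [map_neg, map_inv₀, ht])).2.1
    rw [← simple_eq S.tab.arr hi] at h1
    rw [← hna] at h2
    exact (h1.mul h2).mul h1
  refine ⟨hU D (D.simple C.i0) (c : K), (hr _ hc).mul (hr (-1) (by rw [map_neg, map_one])),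
    fun t => ?_⟩
  rw [hF.hU_conj_xU ha hd.T_lt, hF.prE_simple hi, hd.one, zpow_one]

/-- The positive part centralises the root subgroup of the highest root. -/
theorem Setting.commute_theta_all {g : GL D.Idx K}
    (hg : g ∈ rootClosure D K (D.nroots / 2 ≤ ·)) (a : K) : Commute g (xU D C.theta a) := by
  have hF := S.tab.facts
  have hd := S.dom hB
  induction hg using Subgroup.closure_induction with
  | one => exact Commute.one_left _
  | mul x y _ _ hx hy => exact hx.mul_left hy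
  | inv x _ hx => exact hx.inv_left
  | mem x hx =>
    obtain ⟨s, b, hs, hsp, rfl⟩ := hx
    by_cases he : s = C.theta
    · subst he
      show _ = _
      rw [hF.xU_add hs, hF.xU_add hs, add_comm]
    obtain ⟨hne, hz⟩ := hd.null s hs (Or.inl hsp)
    show _ = _
    have hW : wU D (cwR D C.theta s a b) = 1 := by
      refine List.prod_eq_one fun z hz' => ?_
      obtain ⟨q, hq, rfl⟩ := List.mem_map.1 hz'
      obtain ⟨c, hcm, rfl⟩ := List.mem_map.1 hq
      have := hz c hcm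
      simp only [Nat.cast_zero, zero_dvd_iff] at this
      simp [this, hF.xU_zero (hF.commTerms_wt hF.isWeight_omega hd.T_lt hs hcm).1]
    have h1 := hF.xU_comm S.hC hd.T_lt hs he hne a b
    rw [hW, mul_one] at h1
    exact h1

/-- Raising a rational conjugate of a long positive root element to the highest root. -/
theorem Setting.lift (hF' : fusB T P spec C = true) :
    ∀ e ∈ C.lifts, ∀ (v : GL D.Idx K) (c : K), v ∈ G → v ∈ rootClosure D K (· ∈ allP P C) → c ≠ 0 →
      gMap D f (v * xU D e.r c * v⁻¹) = v * xU D e.r c * v⁻¹ →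
      ∃ m, Rat D f G m ∧ ∃ c' : K, c' ≠ 0 ∧ f c' = c' ∧
        m * (v * xU D e.r c * v⁻¹) * m⁻¹ = xU D C.theta c' := by
  have hF := S.tab.facts
  have hC := S.hC
  have hn := nroots_eq S.tab.arr (D := D)
  simp only [fusB, Bool.and_eq_true, List.all_eq_true] at hF'
  have hl := hF'.1.1.1.1
  intro e
  induction hm : (htT T C.theta - htT T e.r).toNat using Nat.strong_induction_on generalizing e with
  | _ n ih =>
    intro he v c hvG hv hc hfix
    have hL := hl e he
    simp only [liftB, Bool.and_eq_true, List.all_eq_true, Nat.blt_eq, Nat.ble_eq, Nat.beq_eq,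
      Bool.not_eq_true', Bool.or_eq_true, decide_eq_true_eq, List.elem_eq_mem, beq_iff_eq,
      List.any_eq_true] at hL
    obtain ⟨⟨⟨⟨⟨⟨⟨⟨⟨⟨⟨ho, hrn⟩, -⟩, hsp⟩, hact⟩, hN⟩, htr⟩, himg⟩, hlt⟩, hlt'⟩, hnext⟩, hmov⟩ := hL
    obtain ⟨a, -, -, v', hv'G, hv'm, rfl⟩ := S.split hsp hvG hv
    have hsp' := hsp
    simp only [splitB, Bool.and_eq_true, List.all_eq_true] at hsp'
    have hKo := hsp'.1.1.1
    have hind := hsp'.1.2 _ (mem_orbR_self P e.K)
    have hch : IsCh D (allP P C) e.K (orbX D P f e.K a * v') a := by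
      have h1 := (S.orbX_ch hKo (L := allP P C) (fun j hj =>
        (pos_of_ind S.tab hC (hsp'.1.2 j hj)).1) (mem_orbR_self P _) hind a).mul S.tab hC hind
        (IsCh.zero S.tab hC hind (rootClosure_mono (fun r _ hr =>
          ⟨hr.1, fun x => hr.2 (x ▸ mem_orbR_self P _)⟩) hv'm))
      rwa [add_zero, show crd P f e.K a e.K = a by simp [crd]] at h1
    have hact' := hact
    simp only [actB, Bool.and_eq_true] at hact'
    have htr' : e.r ≠ e.t := fun x => by rw [x] at htr; simp at htr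
    have hrA := (pos_of_ind S.tab hC hact'.1.1.2).1
    obtain ⟨h5, h6⟩ := IsCh.act S.tab hC hact hch (x := xU D e.r c) (b := c) (e := 0)
      (by simpa using IsCh.gen S.tab hC hact'.1.1.2 hrA c)
      (by simpa [htr'] using IsCh.gen S.tab hC hact'.1.2 hrA c)
    have hfc := h5.fixed S.tab hC hact'.1.1.2 f hfix
    have hfa := h6.fixed S.tab hC hact'.1.2 f hfix
    rw [zero_add] at hfa
    have ha : f a = a := by
      rw [map_mul, map_mul, map_intCast, hfc] at hfa
      rcases hN with h | h <;> simpa [h, hc] using hfa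
    have hX : Rat D f G (orbX D P f e.K a) := S.orbX_rat hKo ha
    obtain ⟨g, hgG, hgf, -, hg⟩ := S.exists_word [e.o] (by simpa using ho) (S.chkO hB)
    have hrn' : e.r < D.nroots := hn ▸ hrn
    obtain ⟨hr'n, η, hη1, hη2, hη⟩ := hg e.r hrn'
    rw [himg] at hr'n hη
    have hv'' : g * v' * g⁻¹ ∈ rootClosure D K (· ∈ allP P C) := by
      refine conj_closure (fun x hx => ?_) hv'm
      obtain ⟨s, t, hs, ⟨hsA, hsK⟩, rfl⟩ := hx
      obtain ⟨h7, η', -, -, h8⟩ := hg s hs
      rw [h8]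
      refine xU_mem_rootClosure h7 ((S.allP_iff hB h7).2 ?_) _
      rw [hn]
      exact (hmov s hsA).resolve_left hsK
    have hv''G : g * v' * g⁻¹ ∈ G :=
      Subgroup.mul_mem _ (Subgroup.mul_mem _ hgG hv'G) (Subgroup.inv_mem _ hgG)
    have hm0 : Rat D f G (g * (orbX D P f e.K a)⁻¹) :=
      (show Rat D f G g from ⟨hgG, hgf⟩).mul hX.inv
    have heq : g * (orbX D P f e.K a)⁻¹ *
        (orbX D P f e.K a * v' * xU D e.r c * (orbX D P f e.K a * v')⁻¹) *
          (g * (orbX D P f e.K a)⁻¹)⁻¹ =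
        g * v' * g⁻¹ * xU D e.r' (η * c) * (g * v' * g⁻¹)⁻¹ := by
      rw [← hη c]; group
    have hηc : η * c ≠ 0 := mul_ne_zero (fun x => by rw [x, zero_mul] at hη2; exact zero_ne_one hη2) hc
    have hfix' : gMap D f (g * v' * g⁻¹ * xU D e.r' (η * c) * (g * v' * g⁻¹)⁻¹) =
        g * v' * g⁻¹ * xU D e.r' (η * c) * (g * v' * g⁻¹)⁻¹ := by
      rw [← heq, map_mul, map_mul, map_inv, hm0.2, hfix]
    by_cases hend : e.r' = C.theta
    · refine ⟨_, hm0, η * c, hηc, by rw [map_mul, hη1, hfc], ?_⟩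
      rw [heq, hend]
      have h9 := S.commute_theta_all hB (g := g * v' * g⁻¹) (by rwa [S.pos_eq_allP hB]) (η * c)
      rw [h9.eq, mul_inv_cancel_right]
    · obtain ⟨x, hx, hxr⟩ := hnext.resolve_left hend
      have hxlt : htT T x.r = htT T e.r' := by rw [hxr]
      have hdec : (htT T C.theta - htT T x.r).toNat < n := by
        rw [← hm, hxlt]
        exact (Int.toNat_lt_toNat (sub_pos.2 hlt)).2 (by linarith)
      obtain ⟨m, hm1, c', hc1, hc2, hm2⟩ := ih _ hdec x rfl hx (g * v' * g⁻¹) (η * c) hv''G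
        hv'' hηc (by rwa [hxr])
      refine ⟨m * (g * (orbX D P f e.K a)⁻¹), hm1.mul hm0, c', hc1, hc2, ?_⟩
      rw [← hm2, hxr, ← heq]; group

variable {H : Subgroup (GL D.Idx K)} (hHG : H ≤ G)
  (hMH : ∀ g, Rat D f G g → g ∈ H)
  (hpos : ∀ g ∈ H, g ∈ rootClosure D K (D.nroots / 2 ≤ ·) → gMap D f g = g)
include hHG hMH hpos

/-- A conjugate of a long root element in `H`, not at `-θ`, is rational. -/
theorem Setting.long_conj_rat (hR : radB T P spec C = true) (hc : centB T P C = true)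
    (hF' : fusB T P spec C = true) {v : GL D.Idx K} (hvG : v ∈ G)
    (hv : v ∈ rootClosure D K (D.nroots / 2 ≤ ·)) {s : ℕ} (hs : s < D.nroots)
    (hρ : P.rho s = s) (hsθ : s ≠ D.neg C.theta) {c : K} (hc0 : c ≠ 0)
    (hy : v * xU D s c * v⁻¹ ∈ H) :
    gMap D f (v * xU D s c * v⁻¹) = v * xU D s c * v⁻¹ := by
  have hF := S.tab.facts
  have hC := S.hC
  have hn := nroots_eq S.tab.arr (D := D)
  obtain ⟨hθ, -⟩ := S.theta_spec hB
  set y := v * xU D s c * v⁻¹ with hy'
  by_cases hsp : D.nroots / 2 ≤ s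
  · exact hpos y hy (Subgroup.mul_mem _ (Subgroup.mul_mem _ hv
      (xU_mem_rootClosure hs hsp c)) (Subgroup.inv_mem _ hv))
  set x := xU D C.theta (1 : K) with hx
  have hvx : Commute v x := S.commute_theta hB hv
  have hF'' := hF'
  simp only [fusB, Bool.and_eq_true] at hF''
  have hcl := allBelow_spec hF''.1.1.1.2 s (by rw [← hn]; omega)
  simp only [Bool.or_eq_true, Bool.not_eq_true', clsB, Nat.beq_eq] at hcl
  have hcl' := hcl.resolve_left (by simp [hρ])
  rcases hcl' with (e | e) | e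
  · exact absurd (by rw [e, neg_eq S.tab.arr hθ]) hsθ
  · refine S.cent_rat hB hHG hMH hpos hR hc hy ?_
    exact (hvx.mul_left (S.null_commute hs hθ e c 1)).mul_left hvx.inv_left
  simp only [Bool.and_eq_true, Bool.not_eq_true'] at e
  obtain ⟨⟨hsne, hθne⟩, e⟩ := e
  generalize hL : termsT T s C.theta = L at e
  match L, hL, e with
  | [], _, e => simp at e
  | _ :: _ :: _, _, e => simp at e
  | [(r, N, i, j)], hL, e =>
  simp only [Bool.and_eq_true, Nat.beq_eq, Bool.or_eq_true, beq_iff_eq, List.any_eq_true] at e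
  obtain ⟨⟨⟨⟨⟨rfl, rfl⟩, hN⟩, e', he', her⟩, hnsr⟩, hnθr⟩ := e
  have hsθ' : C.theta ≠ s := fun h => by rw [h] at hsne; simp at hsne
  have hθneg : C.theta ≠ D.neg s := fun h => by
    rw [neg_eq S.tab.arr hs] at h; rw [h] at hθne; simp at hθne
  have hterm : D.commTerms s C.theta = [(r, N, 1, 1)] := by
    rw [termsT_eq S.tab.arr S.tab.chain S.tab.short hs hθ, hL]
  have hrn : r < D.nroots := (hF.commTerms_wt hF.isWeight_omega hs hθ (c := (r, N, 1, 1))
    (by rw [hterm]; simp)).1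
  have hθr := S.null_commute hθ hrn hnθr (1 : K) ((N : K) * c)
  have e1 : xU D s c * x * (xU D s c)⁻¹ * x⁻¹ = xU D r ((N : K) * c) := by
    rw [hx, hF.xU_inv hs, mul_assoc (xU D s c), hF.xU_comm hC hs hθ hsθ' hθneg (-c) (1 : K),
      ← mul_assoc, ← mul_assoc, hF.xU_add hs, add_neg_cancel, hF.xU_zero hs, one_mul, cwR, hterm]
    simp only [List.map_cons, List.map_nil, wU_cons, show wU D ([] : List (ℕ × K)) = 1 from rfl, mul_one, pow_one, neg_neg]
    rw [hθr.eq, mul_inv_cancel_right]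
  have hN0 : (N : K) * c ≠ 0 := by rcases hN with h | h <;> simp [h, hc0]
  set w := y * x * y⁻¹ * x⁻¹ with hw
  have ew : w = v * xU D r ((N : K) * c) * v⁻¹ := by
    rw [← e1, hw, hy']
    calc v * xU D s c * v⁻¹ * x * (v * xU D s c * v⁻¹)⁻¹ * x⁻¹
        = v * xU D s c * (v⁻¹ * x * v) * (xU D s c)⁻¹ * (v⁻¹ * x⁻¹) := by group
      _ = v * xU D s c * x * (xU D s c)⁻¹ * (x⁻¹ * v⁻¹) := by
          rw [mul_assoc v⁻¹ x v, ← hvx.eq, inv_mul_cancel_left, hvx.inv_inv.eq]
      _ = v * (xU D s c * x * (xU D s c)⁻¹ * x⁻¹) * v⁻¹ := by group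
  have hxH : x ∈ H := hMH x (S.theta_rat hB (map_one f))
  have hwH : w ∈ H := Subgroup.mul_mem _ (Subgroup.mul_mem _ (Subgroup.mul_mem _ hy hxH)
    (Subgroup.inv_mem _ hy)) (Subgroup.inv_mem _ hxH)
  have hrp : D.nroots / 2 ≤ r := by
    have := hF''.1.1.1.1
    simp only [List.all_eq_true, liftB, Bool.and_eq_true, Nat.ble_eq] at this
    rw [hn, ← her]
    exact (this e' he').1.1.1.1.1.1.1.1.1.2
  have hwf : gMap D f w = w := hpos w hwH (by
    rw [ew]
    exact Subgroup.mul_mem _ (Subgroup.mul_mem _ hv (xU_mem_rootClosure hrn hrp _))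
      (Subgroup.inv_mem _ hv))
  have hyw : Commute y w := by
    rw [ew, hy']
    show v * xU D s c * v⁻¹ * (v * xU D r ((N : K) * c) * v⁻¹) =
      v * xU D r ((N : K) * c) * v⁻¹ * (v * xU D s c * v⁻¹)
    rw [show v * xU D s c * v⁻¹ * (v * xU D r ((N : K) * c) * v⁻¹) =
      v * (xU D s c * xU D r ((N : K) * c)) * v⁻¹ by group,
      (S.null_commute hs hrn hnsr c ((N : K) * c)).eq]
    group
  rw [ew] at hwf
  rw [← her] at hwf
  obtain ⟨m, hm, c', hc', hfc', hmw⟩ := S.lift hB hF' e' he' v _ hvG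
    (by rwa [← S.pos_eq_allP hB]) hN0 hwf
  obtain ⟨m', hm', hmt⟩ := S.torus hB hF' hR (c := (Units.mk0 c' hc')⁻¹)
    (by simp [map_inv₀, hfc'])
  have hg := hm'.mul hm
  have hyH : m' * m * y * (m' * m)⁻¹ ∈ H :=
    Subgroup.mul_mem _ (Subgroup.mul_mem _ (hMH _ hg) hy) (Subgroup.inv_mem _ (hMH _ hg))
  have hcx : m' * m * w * (m' * m)⁻¹ = x := by
    rw [show m' * m * w * (m' * m)⁻¹ = m' * (m * w * m⁻¹) * m'⁻¹ by group, ew, ← her, hmw, hmt]
    simp [hx, hc']
  have hfy := S.cent_rat hB hHG hMH hpos hR hc hyH (by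
    show m' * m * y * (m' * m)⁻¹ * x = x * (m' * m * y * (m' * m)⁻¹)
    rw [← hcx, show m' * m * y * (m' * m)⁻¹ * (m' * m * w * (m' * m)⁻¹) =
      m' * m * (y * w) * (m' * m)⁻¹ by group, hyw.eq]
    group)
  rw [map_mul, map_mul, map_inv, hg.2] at hfy
  exact mul_left_cancel (mul_right_cancel hfy)

/-- The conjugates of `x_θ(1)` under `H` are rational. -/
theorem Setting.conj_theta_rat (hR : radB T P spec C = true) (hc : centB T P C = true)
    (hF' : fusB T P spec C = true) {h : GL D.Idx K} (hh : h ∈ H) :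
    gMap D f (h * xU D C.theta (1 : K) * h⁻¹) = h * xU D C.theta (1 : K) * h⁻¹ := by
  have hF := S.tab.facts
  have hC := S.hC
  have hn := nroots_eq S.tab.arr (D := D)
  obtain ⟨hθ, hθp, hθρ, -⟩ := S.theta_spec hB
  set x := xU D C.theta (1 : K) with hx
  have hyH : h * x * h⁻¹ ∈ H := Subgroup.mul_mem _ (Subgroup.mul_mem _ hh
    (hMH x (S.theta_rat hB (map_one f)))) (Subgroup.inv_mem _ hh)
  obtain ⟨b, hb, n, hnN, w, hw, hwf, u, hufix, hu, e⟩ :=
    S.sys.sig.bruhat_fix (S.sys.le_fix (hHG hh))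
  obtain ⟨u₁, hu₁, t, ht, rfl⟩ := hF.mem_borel_iff.1 hb
  have hup : u ∈ rootClosure D K (D.nroots / 2 ≤ ·) := rootClosure_mono (fun _ _ h => h.2.1) hu
  -- the unipotent part is fixed
  have hu₁G : u₁ ∈ G := by
    have hbn : u₁ * (t * n) ∈ fixS σ := by
      have := Subgroup.mul_mem _ (S.sys.le_fix (hHG hh)) (Subgroup.inv_mem _ hufix)
      rwa [e, mul_inv_cancel_right, mul_assoc] at this
    have htN : t ∈ D.monomialSubgroup K := by
      have := ht; rw [← hF.borel_inf_monomial] at this; exact this.2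
    obtain ⟨u₁', hu₁', eu₁⟩ := S.sys.sig.img_rootClosure (B := (D.nroots / 2 ≤ ·))
      (fun r hr h => S.sys.sig.ok.rho_pos r hr h) hu₁
    obtain ⟨-, m', hm', -, em', -⟩ := S.sys.sig.img_monomial (Subgroup.mul_mem _ htN hnN)
    have e0 : u₁' * m' = u₁ * (t * n) := (eu₁.mul em').unique hbn
    have h3 : u₁⁻¹ * u₁' ∈ rootClosure D K (D.nroots / 2 ≤ ·) ⊓ D.diagonalSubgroup K := by
      refine ⟨Subgroup.mul_mem _ (Subgroup.inv_mem _ hu₁) hu₁', ?_⟩
      rw [← hF.borel_inf_monomial]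
      refine ⟨hF.pos_le_borel (Subgroup.mul_mem _ (Subgroup.inv_mem _ hu₁) hu₁'), ?_⟩
      rw [show u₁⁻¹ * u₁' = t * n * m'⁻¹ by
        rw [eq_mul_inv_iff_mul_eq, mul_assoc, e0, inv_mul_cancel_left]]
      exact Subgroup.mul_mem _ (Subgroup.mul_mem _ htN hnN) (Subgroup.inv_mem _ hm')
    rw [hF.pos_inf_diagonal, Subgroup.mem_bot, inv_mul_eq_one] at h3
    subst h3
    exact S.sys.posU_le ⟨eu₁, hu₁⟩
  obtain ⟨a, ha, hnx, -⟩ := hw ⟨C.theta, hθ⟩
  set s := w ⟨C.theta, hθ⟩ with hs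
  obtain ⟨c, hc0, htx⟩ : ∃ c : K, c ≠ 0 ∧ t * xU D s.val a * t⁻¹ = xU D s.val c := by
    obtain ⟨cc, rfl⟩ := hF.mem_diagonal_iff.1 ht
    exact ⟨_, mul_ne_zero (Units.ne_zero _) ha, hF.hT_conj_xU cc s.isLt a⟩
  have hy : h * x * h⁻¹ = u₁ * xU D s.val c * u₁⁻¹ := by
    have hux : u * x * u⁻¹ = x := by rw [(S.commute_theta hB hup).eq, mul_inv_cancel_right]
    rw [← htx, show xU D s.val a = n * x * n⁻¹ by rw [hx, hnx 1, mul_one], e]
    calc u₁ * t * n * u * x * (u₁ * t * n * u)⁻¹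
        = u₁ * t * (n * (u * x * u⁻¹) * n⁻¹) * (u₁ * t)⁻¹ := by group
      _ = u₁ * (t * (n * x * n⁻¹) * t⁻¹) * u₁⁻¹ := by rw [hux]; group
  have hsρ : P.rho s.val = s.val := by
    have e' := congrArg Fin.val (hwf ⟨C.theta, hθ⟩)
    rw [show S.sys.sig.rhoF ⟨C.theta, hθ⟩ = ⟨C.theta, hθ⟩ from Fin.ext hθρ] at e'
    exact e'.symm
  rw [hy] at hyH ⊢
  by_cases hst : s.val ≠ D.neg C.theta
  · exact S.long_conj_rat hB hHG hMH hpos hR hc hF' hu₁G hu₁ s.isLt hsρ hst hc0 hyH
  simp only [not_not] at hst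
  have hF'' := hF'
  simp only [fusB, Bool.and_eq_true, Nat.beq_eq, List.all_eq_true, Bool.or_eq_true, Nat.blt_eq,
    Nat.ble_eq, Bool.not_eq_true', List.elem_eq_mem, decide_eq_true_eq] at hF''
  obtain ⟨⟨⟨-, ⟨⟨⟨⟨haρ, hsplit⟩, -⟩, -⟩, hmov⟩, ⟨hs'lt, hs'ρ⟩, hs'θ⟩, -⟩, -⟩ := hF''
  rw [S.pos_eq_allP hB] at hu₁
  obtain ⟨a', ha', -, v, hvG, hvm, rfl⟩ := S.split hsplit hu₁G hu₁
  have hao : orbitB T P (T.smp C.i0) = true := by
    have := hsplit; simp only [splitB, Bool.and_eq_true] at this; exact this.1.1.1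
  have hfa : f a' = a' := by simpa [OkA, olen, haρ] using ha'
  obtain ⟨g, hgG, hgf, -, hg⟩ := S.exists_word [C.o0] (by simpa using S.o0_lt hB) (S.chkO hB)
  have hm : Rat D f G (g * (orbX D P f (T.smp C.i0) a')⁻¹) :=
    (show Rat D f G g from ⟨hgG, hgf⟩).mul (show Rat D f G _ from S.orbX_rat hao hfa).inv
  obtain ⟨hs'n, η, -, hη2, hη⟩ := hg _ (hF.neg_lt hθ)
  rw [neg_eq S.tab.arr hθ] at hs'n hη
  have hv' : g * v * g⁻¹ ∈ rootClosure D K (D.nroots / 2 ≤ ·) := by
    refine conj_closure (fun z hz => ?_) hvm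
    obtain ⟨r, t', hr, ⟨hrA, hrK⟩, rfl⟩ := hz
    obtain ⟨h7, η', -, -, h8⟩ := hg r hr
    rw [h8]
    refine xU_mem_rootClosure h7 (hn ▸ (hmov r hrA).resolve_left fun x => hrK ?_) _
    rw [x]; exact mem_orbR_self P _
  have hv'G : g * v * g⁻¹ ∈ G :=
    Subgroup.mul_mem _ (Subgroup.mul_mem _ hgG hvG) (Subgroup.inv_mem _ hgG)
  set X := orbX D P f (T.smp C.i0) a' with hX
  set s' := imgW T spec [C.o0] (T.neg C.theta) with hs'
  have heq : g * X⁻¹ * (X * v * xU D s.val c * (X * v)⁻¹) * (g * X⁻¹)⁻¹ =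
      g * v * g⁻¹ * xU D s' (η * c) * (g * v * g⁻¹)⁻¹ := by
    rw [← hη c, hst, neg_eq S.tab.arr hθ]; group
  have hmem : g * v * g⁻¹ * xU D s' (η * c) * (g * v * g⁻¹)⁻¹ ∈ H := by
    rw [← heq]
    exact Subgroup.mul_mem _ (Subgroup.mul_mem _ (hMH _ hm) hyH) (Subgroup.inv_mem _ (hMH _ hm))
  have := S.long_conj_rat hB hHG hMH hpos hR hc hF' hv'G hv' hs'n hs'ρ (fun x => by
      rw [neg_eq S.tab.arr hθ] at x; rw [x] at hs'θ; simp at hs'θ)
    (mul_ne_zero (fun x => by rw [x, zero_mul] at hη2; exact zero_ne_one hη2) hc0) hmem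
  rw [← heq, map_mul, map_mul, map_inv, hm.2] at this
  exact mul_left_cancel (mul_right_cancel this)

/-- All of `H` is rational. -/
theorem Setting.all_rat (hR : radB T P spec C = true) (hc : centB T P C = true)
    (hF' : fusB T P spec C = true) {h : GL D.Idx K} (hh : h ∈ H) : gMap D f h = h := by
  have hF := S.tab.facts
  have hn := nroots_eq S.tab.arr (D := D)
  have hR' := hR
  simp only [radB, Bool.and_eq_true, List.all_eq_true] at hR'
  obtain ⟨⟨⟨⟨hLc, hWc⟩, -⟩, -⟩, -⟩ := hR'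
  have key : ∀ k ∈ H, k⁻¹ * gMap D f k ∈ rootClosure D K (· ∈ C.Q) := by
    intro k hk
    set d := k⁻¹ * gMap D f k with hd
    have hcc : ∀ m, Rat D f G m → Commute d (m * xU D C.theta (1 : K) * m⁻¹) := by
      intro m hm
      have h1 := S.conj_theta_rat hB hHG hMH hpos hR hc hF'
        (Subgroup.mul_mem _ hk (hMH m hm))
      simp only [map_mul, map_inv, hm.2, (S.theta_rat hB (map_one f)).2] at h1
      show d * _ = _ * d
      rw [hd]
      calc k⁻¹ * gMap D f k * (m * xU D C.theta 1 * m⁻¹)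
          = k⁻¹ * (gMap D f k * m * xU D C.theta 1 * (gMap D f k * m)⁻¹) * gMap D f k := by group
        _ = k⁻¹ * (k * m * xU D C.theta 1 * (k * m)⁻¹) * gMap D f k := by rw [h1]
        _ = m * xU D C.theta 1 * m⁻¹ * (k⁻¹ * gMap D f k) := by group
    have hlong : ∀ R ∈ C.LQ, ∀ t : K, t = 1 ∨ t = -1 → ∀ m, Rat D f G m →
        Commute d (m * xU D R t * m⁻¹) := by
      intro R hR0 t ht m hm
      obtain ⟨hRn, -, g, hg, c, -, hc2, hgx⟩ := S.path_rat hB (hLc R hR0).2 (t := (1 : K)) (map_one f)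
      have h1 := hcc (m * g) (hm.mul hg)
      rw [show m * g * xU D C.theta 1 * (m * g)⁻¹ = m * (g * xU D C.theta 1 * g⁻¹) * m⁻¹ by group,
        hgx] at h1
      have hinv : m * xU D R (-c) * m⁻¹ = (m * xU D R c * m⁻¹)⁻¹ := by
        rw [← hF.xU_inv hRn]; group
      rcases mul_self_eq_one_iff.1 hc2 with e | e <;> rcases ht with rfl | rfl
      · rwa [e] at h1
      · rw [← e, hinv]; exact h1.inv_right
      · rw [show (1 : K) = -c by rw [e, neg_neg], hinv]; exact h1.inv_right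
      · rwa [e] at h1
    refine S.mem_radical hB hR
      (Subgroup.mul_mem _ (Subgroup.inv_mem _ (hHG hk)) (S.tau_mem _ (hHG hk))) ?_
      (fun R hR0 => ?_) (fun e he => ?_)
    · simpa using hcc 1 ⟨Subgroup.one_mem _, map_one _⟩
    · simpa using hlong R hR0 1 (Or.inl rfl) 1 ⟨Subgroup.one_mem _, map_one _⟩
    · have hT' := hWc e he
      simp only [testB, Bool.and_eq_true, List.elem_eq_mem, decide_eq_true_eq] at hT'
      have hlQ : e.l ∈ C.LQ := hT'.1.1.1.1.1.1.1.1.2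
      have hro : orbitB T P e.r = true := hT'.1.1.1.1.1.1.1.1.1.1.1
      have h1 := hlong e.l hlQ 1 (Or.inl rfl) 1 ⟨Subgroup.one_mem _, map_one _⟩
      rw [one_mul, inv_one, mul_one] at h1
      exact h1.mul_right (hlong e.l hlQ (-1) (Or.inr rfl) _ (S.orbX_rat hro (map_one f)))
  have hFu := hF'
  simp only [fusB, Bool.and_eq_true, List.all_eq_true, Nat.blt_eq] at hFu
  obtain ⟨⟨-, hw0⟩, hQw⟩ := hFu
  obtain ⟨g, hgG, hgf, -, hg⟩ := S.exists_word C.w0
    (List.all_eq_true.2 fun o ho => by simpa using hw0 o ho) (S.chkO hB)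
  have hgR : Rat D f G g := ⟨hgG, hgf⟩
  have h1 := key h hh
  have h2 := key (g * h * g⁻¹) (Subgroup.mul_mem _ (Subgroup.mul_mem _ (hMH g hgR) hh)
    (Subgroup.inv_mem _ (hMH g hgR)))
  rw [map_mul, map_mul, map_inv, hgf,
    show (g * h * g⁻¹)⁻¹ * (g * gMap D f h * g⁻¹) = g * (h⁻¹ * gMap D f h) * g⁻¹ by group] at h2
  have h3 : g * (h⁻¹ * gMap D f h) * g⁻¹ ∈ D.borelSubgroup K ⊓ D.negUnipotent K := by
    refine ⟨hF.pos_le_borel (rootClosure_mono (fun _ _ hr => (S.Q_pos hB hr).2) h2), ?_⟩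
    rw [hF.negUnipotent_eq]
    refine conj_closure (fun z hz => ?_) h1
    obtain ⟨r, t, hr, hrQ, rfl⟩ := hz
    obtain ⟨h7, η, -, -, h8⟩ := hg r hr
    rw [h8]
    exact xU_mem_rootClosure h7 (hn ▸ hQw r hrQ) _
  rw [hF.borel_inf_neg, Subgroup.mem_bot, conj_eq_one_iff, inv_mul_eq_one] at h3
  exact h3.symm

end CfsgLib.Chev.SubfieldMax
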