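import Cfsg.Agent.Lib.Known.SubfieldMax.Fusion

/-!
# Irrational short root elements generate the twisted group over the rational points

Moving orbit elements by the rational orbit words and scaling them by the rational torus, and the
dichotomy for a group over the rational points.
-/

set_option autoImplicit false
set_option synthInstance.maxSize 4000

namespace CfsgLib.Chev.SubfieldMax

open Cfsg.Lie CfsgLib.Chev.Table CfsgLib.Chev.EvenInvol CfsgLib.Chev.FixedPoints

universe v

/-- All checks of a certificate. -/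
def certB (T : Tab) (P : TwPar) (spec : List (List ℕ × List ℕ)) (C : Cert) : Bool :=
  baseB T P spec C && pushB T P C.os C.push C.Q0 && radB T P spec C && centB T P C &&
    fusB T P spec C

/-- The word `ws` carries the roots in `L` to the orbit of `r`. -/
def moveB (T : Tab) (P : TwPar) (spec : List (List ℕ × List ℕ)) (L : List ℕ) (r : ℕ)
    (ws : List ℕ) : Bool :=
  ws.all (fun o => Nat.blt o spec.length) &&
    L.all fun x => Nat.blt x T.nroots && (orbR P r).elem (imgW T spec ws x)

/-- The fundamental coroot of index `i0` has pairing `k` with the orbit of `r`. -/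
def scaleB (T : Tab) (P : TwPar) (C : Cert) (r : ℕ) (k : ℤ) : Bool :=
  (orbR P r).all fun x => T.aa C.i0 x == k

variable {D : ChevalleyDatum} {T : Tab} {P : TwPar} {spec : List (List ℕ × List ℕ)}
  {K : Type v} [Field K] {f : K →+* K} {σ : ↥(D.group K) →* GL D.Idx K}
  {G : Subgroup (GL D.Idx K)}

variable (S : Setting T P spec f σ G) {C : Cert} (hB : baseB T P spec C = true)
include S hB
variable {H : Subgroup (GL D.Idx K)} (hMH : ∀ g, Rat D f G g → g ∈ H)
include hMH

/-- Elements of `G` on roots moved into one orbit whose orbit elements lie in `H`. -/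
theorem Setting.move_mem {r : ℕ} (hr : splitB T P (orbR P r) r = true)
    (hall : ∀ a, OkA P f r a → orbX D P f r a ∈ H) {L ws : List ℕ}
    (hm : moveB T P spec L r ws = true) {y : GL D.Idx K} (hy : y ∈ G)
    (hyL : y ∈ rootClosure D K (· ∈ L)) : y ∈ H := by
  simp only [moveB, Bool.and_eq_true, List.all_eq_true, Nat.blt_eq, List.elem_eq_mem,
    decide_eq_true_eq] at hm
  obtain ⟨g, hgG, hgf, -, hg⟩ := S.exists_word ws (List.all_eq_true.2 fun o ho => by
    simpa using hm.1 o ho) (S.chkO hB)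
  have h1 : g * y * g⁻¹ ∈ rootClosure D K (· ∈ orbR P r) := by
    refine conj_closure (fun z hz => ?_) hyL
    obtain ⟨s, t, hs, hsL, rfl⟩ := hz
    obtain ⟨h7, η, -, -, h8⟩ := hg s hs
    rw [h8]
    exact xU_mem_rootClosure h7 (hm.2 s hsL).2 _
  obtain ⟨a, ha, e, -⟩ := S.orb_only hr
    (Subgroup.mul_mem _ (Subgroup.mul_mem _ hgG hy) (Subgroup.inv_mem _ hgG)) h1
  have hgH := hMH g ⟨hgG, hgf⟩
  have h2 := Subgroup.mul_mem _ (Subgroup.mul_mem _ (Subgroup.inv_mem _ hgH) (hall a ha)) hgH
  rw [← e] at h2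
  simpa [mul_assoc] using h2

/-- A word carrying the representative of an orbit exactly to that of another. -/
theorem Setting.transfer {r r' : ℕ} (hr : orbitB T P r = true)
    (hr' : splitB T P (orbR P r') r' = true) {ws : List ℕ}
    (hm : moveB T P spec (orbR P r) r' ws = true) (hi : imgW T spec ws r = r')
    (hinj : (orbR P r).all (fun x => Nat.beq x r || !Nat.beq (imgW T spec ws x) r') = true)
    {a : K} (ha : OkA P f r a) (hX : orbX D P f r a ∈ H) : orbX D P f r' a ∈ H := by
  simp only [moveB, Bool.and_eq_true, List.all_eq_true, Nat.blt_eq, List.elem_eq_mem,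
    decide_eq_true_eq] at hm
  obtain ⟨g, hgG, hgf, -, hg⟩ := S.exists_word ws (List.all_eq_true.2 fun o ho => by
    simpa using hm.1 o ho) (S.chkO hB)
  obtain ⟨hb, -⟩ := S.orb_spec (K := K) hr
  have hrn := (hb r (mem_orbR_self P r)).2
  have h1 : g * orbX D P f r a * g⁻¹ ∈ rootClosure D K (· ∈ orbR P r') := by
    refine conj_closure (fun z hz => ?_) (S.orbX_mem_closure hr a (Q := (· ∈ orbR P r)) fun _ h => h)
    obtain ⟨s, t, hs, hsL, rfl⟩ := hz
    obtain ⟨h7, η, -, -, h8⟩ := hg s hs
    rw [h8]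
    exact xU_mem_rootClosure h7 (hm.2 s hsL).2 _
  have hG : g * orbX D P f r a * g⁻¹ ∈ G :=
    Subgroup.mul_mem _ (Subgroup.mul_mem _ hgG (S.orbX_mem hr ha)) (Subgroup.inv_mem _ hgG)
  obtain ⟨b, -, e, hb'⟩ := S.orb_only hr' hG h1
  have hgH := hMH g ⟨hgG, hgf⟩
  have hH : g * orbX D P f r a * g⁻¹ ∈ H :=
    Subgroup.mul_mem _ (Subgroup.mul_mem _ hgH hX) (Subgroup.inv_mem _ hgH)
  choose hlt η hη1 hη2 hη using hg
  have hir : indB T (orbR P r') r' = true := by
    simp only [splitB, Bool.and_eq_true, List.all_eq_true] at hr'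
    exact hr'.1.2 _ (mem_orbR_self P r')
  obtain ⟨hor, hoi⟩ : orbX D P f r a ∈ rootClosure D K (· ∈ orbR P r) ∧
      IsCh D (orbR P r) r (orbX D P f r a) a := by
    refine ⟨S.orbX_mem_closure hr a fun _ h => h, ?_⟩
    rw [IsCh]
    unfold orbX
    split_ifs with h1 h2
    · rw [inv_mul_cancel]; exact Subgroup.one_mem _
    · rw [inv_mul_cancel_left]
      exact xU_mem_rootClosure (hb _ (by simp [orbR, h1, h2])).2
        ⟨by simp [orbR, h1, h2], h1⟩ _
    · rw [mul_assoc, inv_mul_cancel_left]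
      have hρ : P.rho (P.rho r) ∈ orbR P r := by simp [orbR, h1, h2]
      exact Subgroup.mul_mem _ (xU_mem_rootClosure (hb _ (by simp [orbR, h1, h2])).2
        ⟨by simp [orbR, h1, h2], h1⟩ _) (xU_mem_rootClosure (hb _ hρ).2 ⟨hρ, h2⟩ _)
  have h3 := IsCh.perm S.tab (S' := orbR P r') (g := g) (r := r) (fun s => imgW T spec ws s)
    (fun s => if h : s < D.nroots then η s h else 0) (fun s hs => by
      refine ⟨hlt s (hb s hs).2, (hm.2 s hs).2, fun hne x => ?_, fun t => by
        simp only [dif_pos (hb s hs).2]; exact hη s (hb s hs).2 t⟩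
      have := List.all_eq_true.1 hinj s hs
      simp only [Bool.or_eq_true, Nat.beq_eq, Bool.not_eq_true'] at this
      have h4 := this.resolve_left hne
      rw [x, hi] at h4
      simp at h4) (mem_orbR_self P r) hoi
  simp only [dif_pos hrn, hi] at h3
  have hba := hb'.unique S.tab S.hC hir h3
  rw [e, hba] at hH
  have hho : orbitB T P r' = true := by
    simp only [splitB, Bool.and_eq_true] at hr'; exact hr'.1.1.1
  rcases mul_self_eq_one_iff.1 (hη2 r hrn) with h | h <;> rw [h] at hH
  · rwa [one_mul] at hH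
  · rw [neg_mul, one_mul] at hH
    have := Subgroup.inv_mem _ hH
    rwa [inv_eq_of_mul_eq_one_right (a := orbX D P f r' (-a)) (b := orbX D P f r' a) (by
      rw [S.orbX_add hho, neg_add_cancel, S.orbX_zero hho])] at this

/-- Scaling an orbit element by a rational scalar. -/
theorem Setting.scale (hR : radB T P spec C = true) (hF' : fusB T P spec C = true) {r : ℕ} {k : ℤ}
    (ho : orbitB T P r = true) (hs : scaleB T P C r k = true) (hk : k = 1 ∨ k = -1) {a : K}
    (hX : orbX D P f r a ∈ H) {l : K} (hl : f l = l) : orbX D P f r (l * a) ∈ H := by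
  have hF := S.tab.facts
  by_cases hl0 : l = 0
  · subst hl0; rw [zero_mul, S.orbX_zero ho]; exact Subgroup.one_mem _
  obtain ⟨hb, -⟩ := S.orb_spec (K := K) ho
  have hd := S.dom hB
  have hi := hd.i0_lt
  simp only [fusB, Bool.and_eq_true, List.elem_eq_mem, decide_eq_true_eq] at hF'
  obtain ⟨⟨⟨-, ⟨⟨⟨-, haLQ⟩, hneg⟩, -⟩, -⟩, -⟩, -⟩ := hF'
  simp only [radB, Bool.and_eq_true, List.all_eq_true] at hR
  have hpos : pathB T spec C (T.smp C.i0) = true := (hR.1.1.1.1 _ haLQ).2
  have ha : D.simple C.i0 < D.nroots := hF.simple_lt' hi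
  have hna : D.neg (D.simple C.i0) = T.neg (T.smp C.i0) := by
    rw [simple_eq S.tab.arr hi, neg_eq S.tab.arr (simple_eq S.tab.arr hi ▸ ha)]
  have hr : ∀ t : K, f t = t → Rat D f G (nU D (D.simple C.i0) t) := by
    intro t ht
    have h1 := (S.path_rat hB hpos ht).2.1
    have h2 := (S.path_rat hB hneg (t := -t⁻¹) (by rw [map_neg, map_inv₀, ht])).2.1
    rw [← simple_eq S.tab.arr hi] at h1
    rw [← hna] at h2
    exact (h1.mul h2).mul h1
  obtain ⟨c, hcl, hfc⟩ : ∃ c : Kˣ, ((c ^ k : Kˣ) : K) = l ∧ f (c : K) = c := by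
    rcases hk with rfl | rfl
    · exact ⟨Units.mk0 l hl0, by simp, hl⟩
    · exact ⟨(Units.mk0 l hl0)⁻¹, by simp, by simp [map_inv₀, hl]⟩
  have hm : Rat D f G (hU D (D.simple C.i0) (c : K)) :=
    (hr _ hfc).mul (hr (-1) (by rw [map_neg, map_one]))
  have hconj : ∀ i ∈ orbR P r, ∀ t : K,
      hU D (D.simple C.i0) (c : K) * xU D i t * (hU D (D.simple C.i0) (c : K))⁻¹ =
        xU D i (l * t) := fun i him t => by
    have hpr : prE D (D.simple C.i0) i = k := by
      rw [hF.prE_simple hi, cartan_eq S.tab.arr hi (hb i him).2]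
      simpa using List.all_eq_true.1 hs i him
    rw [hF.hU_conj_xU ha (hb i him).2, hpr, hcl]
  have hcoef : ∀ i, ∀ t : K, l * P.coef f i t = P.coef f i (l * t) := fun i t => by
    rw [S.coef_eq, S.coef_eq, map_mul, hl]; ring
  have he : hU D (D.simple C.i0) (c : K) * orbX D P f r a * (hU D (D.simple C.i0) (c : K))⁻¹ =
      orbX D P f r (l * a) := by
    set m := hU D (D.simple C.i0) (c : K)
    have hr' := mem_orbR_self P r
    unfold orbX
    split_ifs with h1 h2
    · exact hconj r hr' a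
    all_goals have hsm : P.rho r ∈ orbR P r := by simp [orbR, h1, h2]
    · rw [show m * (xU D r a * xU D (P.rho r) (P.coef f r a)) * m⁻¹ =
        (m * xU D r a * m⁻¹) * (m * xU D (P.rho r) (P.coef f r a) * m⁻¹) by group, hconj r hr',
        hconj _ hsm, hcoef]
    · have htm : P.rho (P.rho r) ∈ orbR P r := by simp [orbR, h1, h2]
      rw [show m * (xU D r a * xU D (P.rho r) (P.coef f r a) *
          xU D (P.rho (P.rho r)) (P.coef f (P.rho r) (P.coef f r a))) * m⁻¹ =
        (m * xU D r a * m⁻¹) * (m * xU D (P.rho r) (P.coef f r a) * m⁻¹) *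
          (m * xU D (P.rho (P.rho r)) (P.coef f (P.rho r) (P.coef f r a)) * m⁻¹) by group,
        hconj r hr', hconj _ hsm, hconj _ htm, hcoef, hcoef, hcoef]
  rw [← he]
  exact Subgroup.mul_mem _ (Subgroup.mul_mem _ (hMH _ hm) hX) (Subgroup.inv_mem _ (hMH _ hm))

omit hB hMH in
/-- An irrational parameter gives a proper subgroup. -/
theorem Setting.orbX_irrational {r : ℕ} (hr : splitB T P (orbR P r) r = true) {a : K}
    (ha : OkA P f r a) (hfa : f a ≠ a) :
    orbX D P f r a ∈ G ∧ gMap D f (orbX D P f r a) ≠ orbX D P f r a := by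
  simp only [splitB, Bool.and_eq_true, List.all_eq_true] at hr
  have ho := hr.1.1.1
  refine ⟨S.orbX_mem ho ha, fun e => hfa ?_⟩
  have hind := hr.1.2 _ (mem_orbR_self P r)
  have h := S.orbX_ch ho (L := orbR P r) (fun j hj => hj) (mem_orbR_self P r) hind a
  rw [show crd P f r a r = a by simp [crd]] at h
  exact h.fixed S.tab S.hC hind f e

omit hB in
/-- A group over the rational points is rational or holds an irrational short root element. -/
theorem Setting.rat_or_short (hcert : certB T P spec C = true)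
    (hper : ∀ a : K, ∀ r, f^[olen P r] a = a → olen P r = 3 → f (f (f a)) = a) (hHG : H ≤ G) :
    (∀ h ∈ H, gMap D f h = h) ∨
      ∃ a, OkA P f C.Q0 a ∧ f a ≠ a ∧ orbX D P f C.Q0 a ∈ H := by
  simp only [certB, Bool.and_eq_true] at hcert
  obtain ⟨⟨⟨⟨hB, hp⟩, hR⟩, hc⟩, hF'⟩ := hcert
  by_cases h : ∀ g ∈ H, g ∈ rootClosure D K (D.nroots / 2 ≤ ·) → gMap D f g = g
  · exact Or.inl fun g hg => S.all_rat hB hHG hMH h hR hc hF' hg
  · push Not at h
    obtain ⟨g, hgH, hgU, hne⟩ := h
    rw [S.pos_eq_allP hB] at hgU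
    exact Or.inr (S.exists_short hper hHG (fun g hgG hgf => hMH g ⟨hgG, hgf⟩) hp 0 g hgH hgU hne)

end CfsgLib.Chev.SubfieldMax
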