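import Cfsg.Agent.Lib.Known.SubfieldMax.Act

/-!
# The descent from an irrational unipotent element to an irrational short root element

Let `H` contain the rational points. Commutators with rational orbit elements raise the first
irrational coordinate of an element of `H` in the positive unipotent part up to the highest short
orbit.
-/

set_option autoImplicit false
set_option synthInstance.maxSize 4000

namespace CfsgLib.Chev.SubfieldMax

open Cfsg.Lie CfsgLib.Chev.Table CfsgLib.Chev.EvenInvol CfsgLib.Chev.FixedPoints

universe v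

/-- The position of `i` in the orbit of `r`. -/
def pwR (P : TwPar) (r i : ℕ) : ℕ := if i = r then 0 else if i = P.rho r then 1 else 2

/-- The sign of the orbit element at `i`. -/
def sgR (P : TwPar) (r i : ℕ) : ℤ :=
  if i = r then 1 else if i = P.rho r then P.eps r else P.eps (P.rho r) * P.eps r

/-- A step of the descent: the orbit to commute with, the roots above it, the target and for every
member of the orbit the member moved to the target with its coefficient. -/
structure Step where
  R : ℕ
  up : List ℕ
  t : ℕ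
  srcs : List (ℕ × ℕ × ℤ)

/-- The coefficient of the `m`-th conjugate of the parameter in the target coordinate. -/
def cVec (P : TwPar) (Q : ℕ) (s : Step) (m : ℕ) : ℤ :=
  ((s.srcs.filter fun e => Nat.beq (pwR P Q e.2.1) m).map
    fun e => e.2.2 * sgR P Q e.2.1 * sgR P s.R e.1).sum

/-- The target coordinate is rational only for a rational parameter. -/
def goodC (n : ℕ) (c0 c1 c2 : ℤ) : Bool :=
  ((c0 == 1 || c0 == -1) && c1 == 0 && c2 == 0) || ((c1 == 1 || c1 == -1) && c0 == 0 && c2 == 0) ||
    ((c2 == 1 || c2 == -1) && c0 == 0 && c1 == 0) ||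
    (Nat.beq n 3 &&
      (((c0 == 1 || c0 == -1) && c1 == c0 && c2 == 0) || ((c0 == 1 || c0 == -1) && c2 == c0 && c1 == 0)
        || ((c1 == 1 || c1 == -1) && c2 == c1 && c0 == 0)))

/-- The check of a step at the orbit of `Q` among the roots `L`, the roots after it being `L'`. -/
def stepB (T : Tab) (P : TwPar) (L L' : List ℕ) (Q : ℕ) (s : Step) : Bool :=
  splitB T P (orbR P s.R ++ s.up) s.R && s.up.all (fun i => L'.elem i) &&
    indB T (orbR P s.R ++ s.up) s.t && !(s.up.elem s.R) && !((orbR P s.R).elem s.t) &&
    (s.srcs.map Prod.fst == orbR P s.R) &&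
    s.srcs.all (fun e => (orbR P Q).elem e.2.1 && indB T L e.2.1 &&
      actB T L (e.1 :: s.up) e.2.1 e.1 s.t e.2.2) &&
    goodC (olen P Q) (cVec P Q s 0) (cVec P Q s 1) (cVec P Q s 2)

/-- The roots of the orbits from the `i`-th on. -/
def restL (P : TwPar) (os : List ℕ) (i : ℕ) : List ℕ := (os.drop i).flatMap (orbR P)

/-- The check of the descent. -/
def pushB (T : Tab) (P : TwPar) (os : List ℕ) (st : List (Option Step)) (Q0 : ℕ) : Bool :=
  allBelow os.length fun i =>
    splitB T P (restL P os i) (os.getD i 0) &&
      (Nat.beq (P.rho (os.getD i 0)) (os.getD i 0) ||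
        match st.getD i none with
        | none => Nat.beq (os.getD i 0) Q0 && (os.drop (i + 1)).all fun r => Nat.beq (P.rho r) r
        | some s => stepB T P (restL P os i) (restL P os (i + 1)) (os.getD i 0) s)

variable {D : ChevalleyDatum} {T : Tab} {P : TwPar} {spec : List (List ℕ × List ℕ)}
  {K : Type v} [Field K] {f : K →+* K} {σ : ↥(D.group K) →* GL D.Idx K}
  {G : Subgroup (GL D.Idx K)}

theorem restL_cons (P : TwPar) {os : List ℕ} {i : ℕ} (hi : i < os.length) :
    restL P os i = orbR P (os.getD i 0) ++ restL P os (i + 1) := by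
  rw [restL, restL, List.drop_eq_getElem_cons hi, List.flatMap_cons, List.getElem_eq_getD]

variable (S : Setting T P spec f σ G)
include S

theorem Setting.crd_eq (r : ℕ) (a : K) (i : ℕ) :
    crd P f r a i = (sgR P r i : K) * f^[pwR P r i] a := by
  unfold crd sgR pwR
  split_ifs <;> simp [S.coef_eq, Function.iterate_succ, mul_assoc]

theorem Setting.crd_one (r i : ℕ) : crd P f r (1 : K) i = (sgR P r i : K) := by
  rw [S.crd_eq, iterate_map_one, mul_one]

theorem Setting.orbX_eq_wU {r : ℕ} (ho : orbitB T P r = true) (a : K) :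
    orbX D P f r a = wU D ((orbR P r).map fun i => (i, crd P f r a i)) := by
  obtain ⟨hb, -⟩ := S.orb_spec (K := K) ho
  unfold orbX orbR
  split_ifs with h1 h2
  · simp [wU, crd]
  · simp [wU, crd, h1]
  · have h3 : P.rho (P.rho r) ≠ P.rho r := fun e => h1 (S.sys.sig.ok.rho_inj _
      (hb _ (by simp [orbR, h1, h2])).2 r (hb r (mem_orbR_self P r)).2 e)
    simp [wU, crd, h1, h2, h3, mul_assoc]

omit S in
theorem eq_of_rat {n : ℕ} {c0 c1 c2 : ℤ} (h : goodC n c0 c1 c2 = true) {a : K}
    (h3 : n = 3 → f (f (f a)) = a)
    (hv : f ((c0 : K) * a + (c1 : K) * f a + (c2 : K) * f (f a)) =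
      (c0 : K) * a + (c1 : K) * f a + (c2 : K) * f (f a)) : f a = a := by
  simp only [goodC, Bool.or_eq_true, Bool.and_eq_true, beq_iff_eq, Nat.beq_eq] at h
  rcases h with ((⟨⟨e, rfl⟩, rfl⟩ | ⟨⟨e, rfl⟩, rfl⟩) | ⟨⟨e, rfl⟩, rfl⟩) | ⟨hn, h⟩
  · rcases e with rfl | rfl <;> simpa using hv
  · rcases e with rfl | rfl <;> simpa [f.injective.eq_iff] using hv
  · rcases e with rfl | rfl <;> simpa [f.injective.eq_iff] using hv
  have hf := h3 hn
  have hi := f.injective
  rcases h with (⟨⟨e, rfl⟩, rfl⟩ | ⟨⟨e, rfl⟩, rfl⟩) | ⟨⟨e, rfl⟩, rfl⟩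
  · have e2 : f (f a) = a := by
      rcases e with rfl | rfl
      · have : f a + f (f a) = a + f a := by simpa using hv
        linear_combination this
      · have : -f a + -f (f a) = -a + -f a := by simpa [add_comm] using hv
        linear_combination -this
    rw [e2] at hf
    exact hf
  · have e2 : f a = f (f a) := by
      rcases e with rfl | rfl
      · have : f a + f (f (f a)) = a + f (f a) := by simpa using hv
        rw [hf] at this
        linear_combination this
      · have : -f a + -f (f (f a)) = -a + -f (f a) := by simpa using hv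
        rw [hf] at this
        linear_combination -this
    exact (hi e2).symm
  · rcases e with rfl | rfl
    · have : f (f a) + f (f (f a)) = f a + f (f a) := by simpa using hv
      rw [hf] at this
      linear_combination -this
    · have : -f (f a) + -f (f (f a)) = -f a + -f (f a) := by simpa using hv
      rw [hf] at this
      linear_combination this

variable (hper : ∀ a : K, ∀ r, f^[olen P r] a = a → olen P r = 3 → f (f (f a)) = a)
  {H : Subgroup (GL D.Idx K)} (hHG : H ≤ G) (hMH : ∀ g ∈ G, gMap D f g = g → g ∈ H)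

/-- A fixed element on orbits of length one is rational. -/
theorem Setting.long_rat {os : List ℕ} {st : List (Option Step)} {Q0 : ℕ}
    (h : pushB T P os st Q0 = true) :
    ∀ i, (os.drop i).all (fun r => Nat.beq (P.rho r) r) = true → ∀ g ∈ G,
      g ∈ rootClosure D K (· ∈ restL P os i) → gMap D f g = g := by
  intro i
  induction hn : os.length - i generalizing i with
  | zero =>
    intro _ g _ hm
    have : rootClosure D K (· ∈ restL P os i) = ⊥ := by
      rw [eq_bot_iff]
      refine (Subgroup.closure_le _).2 ?_
      rintro x ⟨r, c, -, hr, rfl⟩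
      simp [restL, List.drop_eq_nil_of_le (show os.length ≤ i by omega)] at hr
    rw [this, Subgroup.mem_bot] at hm
    rw [hm, map_one]
  | succ n ih =>
    intro hl g hg hm
    have hi : i < os.length := by omega
    have hb := allBelow_spec h i hi
    simp only [Bool.and_eq_true] at hb
    obtain ⟨a, ha, -, w, hw, hwm, rfl⟩ := S.split hb.1 hg hm
    rw [List.drop_eq_getElem_cons hi, List.all_cons, Bool.and_eq_true, Nat.beq_eq] at hl
    rw [← List.getElem_eq_getD (h := hi) (fallback := 0)] at ha ⊢
    have hfa : f a = a := by simpa [OkA, olen, hl.1] using ha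
    have ho : orbitB T P os[i] = true := by
      have := hb.1
      simp only [splitB, Bool.and_eq_true, ← List.getElem_eq_getD (h := hi) (fallback := 0)] at this
      exact this.1.1.1
    rw [map_mul, S.orbX_fixed ho hfa, ih (i + 1) (by omega) hl.2 w hw (rootClosure_mono
      (fun r _ hr => ?_) hwm)]
    rw [restL_cons P hi, ← List.getElem_eq_getD (h := hi) (fallback := 0)] at hr
    exact (List.mem_append.1 hr.1).resolve_left hr.2

include hper hHG hMH in
/-- An irrational element of `H` in the positive unipotent part yields an irrational orbit element. -/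
theorem Setting.exists_short {os : List ℕ} {st : List (Option Step)} {Q0 : ℕ}
    (h : pushB T P os st Q0 = true) :
    ∀ i, ∀ g ∈ H, g ∈ rootClosure D K (· ∈ restL P os i) → gMap D f g ≠ g →
      ∃ a, OkA P f Q0 a ∧ f a ≠ a ∧ orbX D P f Q0 a ∈ H := by
  intro i
  induction hn : os.length - i using Nat.strong_induction_on generalizing i with
  | _ n ih =>
    intro g hgH hm hirr
    by_cases hi : i < os.length
    swap
    · exfalso
      refine hirr (S.long_rat h i ?_ g (hHG hgH) hm)
      rw [List.drop_eq_nil_of_le (by omega)]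
      rfl
    have hb := allBelow_spec h i hi
    simp only [Bool.and_eq_true, Bool.or_eq_true, Nat.beq_eq] at hb
    set Q := os.getD i 0 with hQ
    obtain ⟨a, ha, hch, w, hw, hwm, rfl⟩ := S.split hb.1 (hHG hgH) hm
    have ho : orbitB T P Q = true := by
      have := hb.1
      simp only [splitB, Bool.and_eq_true] at this
      exact this.1.1.1
    have hwm' : w ∈ rootClosure D K (· ∈ restL P os (i + 1)) := rootClosure_mono (fun r _ hr => by
      rw [restL_cons P hi] at hr
      exact (List.mem_append.1 hr.1).resolve_left hr.2) hwm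
    by_cases hfa : f a = a
    · have hz := hMH _ (S.orbX_rat ho hfa).1 (S.orbX_rat ho hfa).2
      have hwH : w ∈ H := by
        have := Subgroup.mul_mem _ (Subgroup.inv_mem _ hz) hgH
        rwa [inv_mul_cancel_left] at this
      refine ih _ (by omega) (i + 1) rfl w hwH hwm' fun e => hirr ?_
      rw [map_mul, e, S.orbX_fixed ho hfa]
    rcases hb.2 with hQl | hs
    · exact absurd (by simpa [OkA, olen, hQl] using ha) hfa
    split at hs
    · simp only [Bool.and_eq_true, Nat.beq_eq] at hs
      obtain ⟨e0, hl⟩ := hs
      have hwr := S.long_rat h (i + 1) hl w hw hwm'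
      have hX : orbX D P f Q a ∈ H := by
        have := Subgroup.mul_mem _ hgH (Subgroup.inv_mem _ (hMH _ hw hwr))
        rwa [mul_inv_cancel_right] at this
      exact ⟨a, e0 ▸ ha, hfa, e0 ▸ hX⟩
    rename_i s hst
    simp only [stepB, Bool.and_eq_true, List.all_eq_true, List.elem_eq_mem, decide_eq_true_eq,
      Bool.not_eq_true', decide_eq_false_iff_not, beq_iff_eq] at hs
    obtain ⟨⟨⟨⟨⟨⟨⟨hsp, hup⟩, hti⟩, hRup⟩, htR⟩, hsrc⟩, hact⟩, hgood⟩ := hs
    set A := orbR P s.R ++ s.up with hA
    set g := orbX D P f Q a * w with hgdef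
    have hRo : orbitB T P s.R = true := by
      have := hsp
      simp only [splitB, Bool.and_eq_true] at this
      exact this.1.1.1
    have hRi : ∀ j ∈ orbR P s.R, indB T A j = true := by
      have := hsp
      simp only [splitB, Bool.and_eq_true, List.all_eq_true] at this
      exact this.1.2
    obtain ⟨hRb, -⟩ := S.orb_spec (K := K) hRo
    have hQi : ∀ k ∈ orbR P Q, indB T (restL P os i) k = true := by
      have := hb.1
      simp only [splitB, Bool.and_eq_true, List.all_eq_true] at this
      exact this.1.2
    have hQch : ∀ k ∈ orbR P Q, IsCh D (restL P os i) k g (crd P f Q a k) := fun k hk => by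
      have h1 := S.orbX_ch ho (L := restL P os i)
        (fun j hj => by rw [restL_cons P hi]; exact List.mem_append_left _ hj) hk (hQi k hk) a
      have h2 := h1.mul S.tab S.hC (hQi k hk) (IsCh.zero S.tab S.hC (hQi k hk)
        (rootClosure_mono (fun r _ hr => ⟨hr.1, fun e => hr.2 (e ▸ hk)⟩) hwm))
      rwa [add_zero] at h2
    have hsum : ∀ es : List (ℕ × ℕ × ℤ), (∀ e ∈ es, e ∈ s.srcs) →
        IsCh D A s.R (g * wU D (es.map fun e => (e.1, crd P f s.R (1 : K) e.1)) * g⁻¹)
            (es.map fun e => if e.1 = s.R then (1 : K) else 0).sum ∧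
          IsCh D A s.t (g * wU D (es.map fun e => (e.1, crd P f s.R (1 : K) e.1)) * g⁻¹)
            (es.map fun e => ((e.2.2 * sgR P Q e.2.1 * sgR P s.R e.1 : ℤ) : K) *
              f^[pwR P Q e.2.1] a).sum := by
      intro es hes
      induction es with
      | nil =>
        simp only [wU, List.map_nil, List.prod_nil, mul_one, mul_inv_cancel, List.sum_nil]
        exact ⟨IsCh.zero S.tab S.hC (hRi _ (mem_orbR_self P _)) (Subgroup.one_mem _),
          IsCh.zero S.tab S.hC hti (Subgroup.one_mem _)⟩
      | cons e es ihe =>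
        obtain ⟨i1, i2⟩ := ihe fun x hx => hes x (List.mem_cons_of_mem _ hx)
        have he := hes e (by simp)
        obtain ⟨⟨he1, -⟩, he2⟩ := hact e he
        have hje : e.1 ∈ orbR P s.R := by rw [← hsrc]; exact List.mem_map_of_mem he
        have hact' := he2
        simp only [actB, Bool.and_eq_true] at hact'
        set c := crd P f s.R (1 : K) e.1 with hc
        obtain ⟨h5, h6⟩ := IsCh.act S.tab S.hC he2 (hQch _ he1) (x := xU D e.1 c) (b := c) (e := 0)
          (by simpa using IsCh.gen S.tab S.hC hact'.1.1.2 (s := e.1) (by simp) c)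
          (by simpa [show e.1 ≠ s.t from fun x => htR (x ▸ hje)] using
            IsCh.gen S.tab S.hC hact'.1.2 (s := e.1) (by simp) c)
        have hsub : ∀ x ∈ e.1 :: s.up, x ∈ A := fun x hx => by
          rcases List.mem_cons.1 hx with rfl | hx
          exacts [List.mem_append_left _ hje, List.mem_append_right _ hx]
        have h7 : IsCh D A s.R (g * xU D e.1 c * g⁻¹) (if e.1 = s.R then 1 else 0) := by
          split_ifs with e'
          · rw [e'] at h5
            have : c = 1 := by rw [hc, e', S.crd_one]; simp [sgR]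
            rw [this] at h5 ⊢
            rw [e']
            exact h5.mono S.tab fun x hx => hsub x (e'.symm ▸ hx)
          · refine IsCh.zero S.tab S.hC (hRi _ (mem_orbR_self P _))
              (rootClosure_mono (fun x _ hx => ⟨hsub x hx, fun ex => ?_⟩)
                (h5.mem S.tab S.hC hact'.1.1.2))
            rcases List.mem_cons.1 hx with hx | hx
            · exact e' (hx.symm.trans ex)
            · exact hRup (ex ▸ hx)
        have h8 := h6.mono S.tab hsub
        rw [zero_add, hc, S.crd_one, S.crd_eq] at h8
        simp only [List.map_cons, wU_cons, List.sum_cons]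
        rw [show g * (xU D e.1 c * wU D (es.map fun e => (e.1, crd P f s.R (1 : K) e.1))) * g⁻¹ =
          (g * xU D e.1 c * g⁻¹) *
            (g * wU D (es.map fun e => (e.1, crd P f s.R (1 : K) e.1)) * g⁻¹) by group]
        refine ⟨h7.mul S.tab S.hC (hRi _ (mem_orbR_self P _)) i1, ?_⟩
        have h9 := h8.mul S.tab S.hC hti i2
        rw [hc, S.crd_one]
        refine (congrArg (fun v => IsCh D A s.t _ v) ?_).mp h9
        rw [Int.cast_mul, Int.cast_mul]; ring
    obtain ⟨hzR, hzt⟩ := hsum s.srcs fun e he => he
    have hz : wU D (s.srcs.map fun e => (e.1, crd P f s.R (1 : K) e.1)) =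
        orbX D P f s.R (1 : K) := by
      rw [S.orbX_eq_wU hRo, ← hsrc, List.map_map]; rfl
    rw [hz] at hzR hzt
    have hR1 : (s.srcs.map fun e => if e.1 = s.R then (1 : K) else 0).sum = 1 := by
      rw [show (s.srcs.map fun e => if e.1 = s.R then (1 : K) else 0) =
        (orbR P s.R).map fun i => if i = s.R then (1 : K) else 0 by
          rw [← hsrc, List.map_map]; rfl]
      unfold orbR
      split_ifs with e1 e2 <;> simp_all
    rw [hR1] at hzR
    have hM := S.orbX_rat hRo (map_one f)
    have hzH := hMH _ hM.1 hM.2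
    set y := g * orbX D P f s.R (1 : K) * g⁻¹ * (orbX D P f s.R (1 : K))⁻¹ with hy
    have hyH : y ∈ H := Subgroup.mul_mem _ (Subgroup.mul_mem _ (Subgroup.mul_mem _ hgH hzH)
      (Subgroup.inv_mem _ hgH)) (Subgroup.inv_mem _ hzH)
    have hyR : IsCh D A s.R y 0 := by
      have := hzR.mul S.tab S.hC (hRi _ (mem_orbR_self P _)) ((S.orbX_ch hRo (L := A)
        (fun j hj => List.mem_append_left _ hj) (mem_orbR_self P _) (hRi _ (mem_orbR_self P _))
        (1 : K)).inv S.tab S.hC (hRi _ (mem_orbR_self P _)))
      rwa [S.crd_one, show sgR P s.R s.R = 1 by simp [sgR], Int.cast_one, add_neg_cancel] at this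
    have hzt0 : IsCh D A s.t (orbX D P f s.R (1 : K)) 0 := IsCh.zero S.tab S.hC hti
      (S.orbX_mem_closure hRo 1 fun j hj => ⟨List.mem_append_left _ hj, fun e => htR (e ▸ hj)⟩)
    have hyt := hzt.mul S.tab S.hC hti (hzt0.inv S.tab S.hC hti)
    rw [neg_zero, add_zero] at hyt
    obtain ⟨b, -, hb', v, -, hv, ev⟩ := S.split hsp (hHG hyH) (hyR.mem S.tab S.hC (hRi _
      (mem_orbR_self P _)))
    rw [hb'.unique S.tab S.hC (hRi _ (mem_orbR_self P _)) hyR, S.orbX_zero hRo, one_mul] at ev
    have hyL : y ∈ rootClosure D K (· ∈ restL P os (i + 1)) := by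
      rw [ev]
      refine rootClosure_mono (fun r _ hr => ?_) hv
      rcases List.mem_append.1 hr.1 with h' | h'
      exacts [absurd h' hr.2, hup r h']
    refine ih _ (by omega) (i + 1) rfl y hyH hyL fun e => hfa ?_
    have hfix := hyt.fixed S.tab S.hC hti f e
    refine eq_of_rat hgood (fun hn' => hper a Q ha hn') ?_
    have key : ∀ es : List (ℕ × ℕ × ℤ), (∀ e ∈ es, pwR P Q e.2.1 < 3) →
        (es.map fun e => ((e.2.2 * sgR P Q e.2.1 * sgR P s.R e.1 : ℤ) : K) *
          f^[pwR P Q e.2.1] a).sum =
        ((((es.filter fun e => Nat.beq (pwR P Q e.2.1) 0).map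
            fun e => e.2.2 * sgR P Q e.2.1 * sgR P s.R e.1).sum : ℤ) : K) * a +
          ((((es.filter fun e => Nat.beq (pwR P Q e.2.1) 1).map
            fun e => e.2.2 * sgR P Q e.2.1 * sgR P s.R e.1).sum : ℤ) : K) * f a +
          ((((es.filter fun e => Nat.beq (pwR P Q e.2.1) 2).map
            fun e => e.2.2 * sgR P Q e.2.1 * sgR P s.R e.1).sum : ℤ) : K) * f (f a) := by
      intro es hes
      induction es with
      | nil => simp
      | cons e es ihe =>
        have he := hes e (by simp)
        rw [List.map_cons, List.sum_cons, ihe fun x hx => hes x (List.mem_cons_of_mem _ hx)]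
        interval_cases hp : pwR P Q e.2.1 <;> simp [hp, Function.iterate_succ] <;> ring
    have hlt : ∀ e ∈ s.srcs, pwR P Q e.2.1 < 3 := fun e _ => by unfold pwR; split_ifs <;> omega
    rw [key s.srcs hlt] at hfix
    exact hfix

end CfsgLib.Chev.SubfieldMax
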