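import Cfsg.Agent.Lib.Known.SubfieldMax.Basic

/-!
# The elements commuting with the rational test elements of the radical

A fixed element commuting with the long root elements of the radical and with one test element on
enough short orbits lies in the radical.
-/

set_option autoImplicit false
set_option synthInstance.maxSize 4000

namespace CfsgLib.Chev.SubfieldMax

open Cfsg.Lie CfsgLib.Chev.Table CfsgLib.Chev.EvenInvol CfsgLib.Chev.FixedPoints

universe v

/-- The positive part fixes the coordinate at `r` in `A`. -/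
def presB (T : Tab) (P : TwPar) (C : Cert) (A : List ℕ) (r : ℕ) : Bool :=
  actB T (allP P C) A (C.os.getD 0 0) r r 0

/-- The check of a long root of the radical. -/
def longB (T : Tab) (P : TwPar) (C : Cert) (R : ℕ) : Bool :=
  indB T C.Q R && presB T P C (R :: upQ T C R) R

/-- The check of a test element. -/
def testB (T : Tab) (P : TwPar) (C : Cert) (e : WTest) : Bool :=
  let A := orbR P e.s ++ upQ T C e.s
  orbitB T P e.r && indB T (orbR P e.r) e.r && Nat.beq (P.rho e.l) e.l && C.LQ.elem e.l &&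
    !Nat.beq e.s e.l && (e.N == 1 || e.N == -1) && C.Q.elem e.s &&
    (orbR P e.s).all (fun i => C.Q.elem i) &&
    splitB T P (e.l :: A) e.l && splitB T P A e.s &&
    actB T (orbR P e.r) (e.l :: A) e.r e.l e.s e.N &&
    (orbR P e.s).all fun i => presB T P C A i

/-- The closure of the roots where a character is trivial. -/
def derB (T : Tab) (goal : List ℕ) : List (ℕ × ℕ × ℕ) → List ℕ → Bool
  | [], kn => goal.all fun r => kn.elem r
  | (r, l, k) :: ds, kn =>
    kn.elem r && (kn.elem l || kn.elem k) && Nat.blt r T.nroots && Nat.blt l T.nroots &&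
      (match termsT T r l with
        | c :: _ => Nat.beq c.1 k && Nat.beq c.2.2.1 1 && Nat.beq c.2.2.2 1
        | [] => false) &&
      derB T goal ds (l :: k :: kn)

/-- The check of the fixed Weyl elements. -/
def weylB (T : Tab) (spec : List (List ℕ × List ℕ)) (C : Cert) : Bool :=
  ((spec.getD C.o0 ([], [])).1 == [C.i0]) && C.LQ.elem (T.smp C.i0) &&
  C.LQ.all (fun R => allBelow T.nroots fun x =>
    !(upQ T C R).elem x || decide (htT T R < htT T x)) &&
  allBelow spec.length fun o => Nat.beq o C.o0 || C.combs.any fun e => Nat.beq e.1 o &&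
    (C.theta :: C.LQ).elem e.2.1 && (C.theta :: C.LQ).elem e.2.2 &&
    allBelow T.rank fun j => T.co e.2.1 j - T.co e.2.2 j ==
      bif (spec.getD o ([], [])).1.elem j then 1 else 0

/-- The check of the removal of the orbits outside the radical. -/
def killB (T : Tab) (P : TwPar) (C : Cert) : Bool :=
  (allP P C).all (fun r => (restL P C.Lo 0 ++ C.Q).elem r) &&
  Nat.beq C.kills.length C.Lo.length &&
  allBelow C.Lo.length fun k =>
    let K := C.Lo.getD k 0
    let e := C.kills.getD k ⟨0, 0, 0, 0⟩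
    splitB T P (restL P C.Lo k ++ C.Q) K && C.LQ.elem e.R && (orbR P K).elem e.src &&
      (e.N * sgR P K e.src == 1 || e.N * sgR P K e.src == -1) && !Nat.beq e.t e.R &&
      actB T (restL P C.Lo k ++ C.Q) (e.R :: upQ T C e.R) e.src e.R e.t e.N

/-- The check for the radical. -/
def radB (T : Tab) (P : TwPar) (spec : List (List ℕ × List ℕ)) (C : Cert) : Bool :=
  C.LQ.all (fun R => longB T P C R && pathB T spec C R) && C.wts.all (fun e => testB T P C e) &&
    derB T (allP P C) C.ders (C.theta :: C.LQ ++ C.wts.flatMap fun e => orbR P e.s) &&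
    weylB T spec C && killB T P C

variable {D : ChevalleyDatum} {T : Tab} {P : TwPar} {spec : List (List ℕ × List ℕ)}
  {K : Type v} [Field K] {f : K →+* K} {σ : ↥(D.group K) →* GL D.Idx K}
  {G : Subgroup (GL D.Idx K)}

/-- The test element. -/
noncomputable def wEl (D : ChevalleyDatum) (P : TwPar) (f : K →+* K) (e : WTest) : GL D.Idx K :=
  xU D e.l 1 * (orbX D P f e.r 1 * xU D e.l (-1) * (orbX D P f e.r 1)⁻¹)

theorem iterate_eq_zero (f : K →+* K) {n : ℕ} {a : K} (h : f^[n] a = 0) : a = 0 :=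
  f.injective.iterate n (h.trans (iterate_map_zero f n).symm)

theorem upQ_sub {T : Tab} {C : Cert} {R x : ℕ} (h : x ∈ upQ T C R) : x ∈ C.Q :=
  (List.mem_filter.1 h).1

variable (S : Setting T P spec f σ G) {C : Cert} (hB : baseB T P spec C = true)
include S hB

theorem Setting.pres {A : List ℕ} {r : ℕ} (h : presB T P C A r = true) {g : GL D.Idx K}
    (hg : g ∈ rootClosure D K (D.nroots / 2 ≤ ·)) {x : GL D.Idx K} {b : K}
    (hx : IsCh D A r x b) : IsCh D A r (g * x * g⁻¹) b := by
  have h' := h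
  simp only [presB, actB, Bool.and_eq_true] at h'
  rw [S.pos_eq_allP hB] at hg
  obtain ⟨a, ha⟩ := exists_ch S.tab S.hC h'.1.1.1 hg
  exact (IsCh.act S.tab S.hC h ha hx hx).1

/-- The coordinates of a test element. -/
theorem Setting.wEl_spec {e : WTest} (he : testB T P C e = true) :
    (∀ i ∈ orbR P e.s, ∃ b : K, b ≠ 0 ∧ IsCh D (orbR P e.s ++ upQ T C e.s) i (wEl D P f e) b) ∧
      Rat D f G (wEl D P f e) := by
  simp only [testB, Bool.and_eq_true, List.all_eq_true, Nat.beq_eq, Bool.not_eq_true',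
    List.elem_eq_mem, decide_eq_true_eq, Bool.or_eq_true, beq_iff_eq] at he
  obtain ⟨⟨⟨⟨⟨⟨⟨⟨⟨⟨⟨hro, hri⟩, hl⟩, hlQ⟩, hsl⟩, hN⟩, hsQ⟩, -⟩, hspl⟩, hsps⟩, hact⟩, -⟩ := he
  have hsl' : e.s ≠ e.l := fun x => by rw [x] at hsl; simp at hsl
  set A := orbR P e.s ++ upQ T C e.s with hA
  have hlo : orbitB T P e.l = true := by
    have := hspl
    simp only [splitB, Bool.and_eq_true] at this
    exact this.1.1.1
  have hAo : orbitB T P e.s = true ∧ (A.all (fun i => A.elem (P.rho i)) = true) ∧
      ∀ i ∈ orbR P e.s, indB T A i = true := by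
    have := hsps
    simp only [splitB, Bool.and_eq_true, List.all_eq_true] at this
    exact ⟨this.1.1.1, List.all_eq_true.2 this.1.1.2, this.1.2⟩
  have hact' := hact
  simp only [actB, Bool.and_eq_true] at hact'
  obtain ⟨⟨⟨-, hil⟩, his⟩, -⟩ := hact'
  have hxl : ∀ t : K, f t = t → Rat D f G (xU D e.l t) := fun t ht => by
    simpa [Rat, orbX, hl] using S.orbX_rat hlo ht
  have hX : Rat D f G (orbX D P f e.r (1 : K)) := S.orbX_rat hro (map_one f)
  have hwR : Rat D f G (wEl D P f e) :=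
    (hxl 1 (map_one f)).mul (hX.conj (hxl (-1) (by rw [map_neg, map_one])))
  refine ⟨?_, hwR⟩
  have hg := S.orbX_ch hro (L := orbR P e.r) (fun j hj => hj) (mem_orbR_self P e.r) hri (1 : K)
  rw [show crd P f e.r (1 : K) e.r = 1 by simp [crd]] at hg
  have gl : ∀ t : K, IsCh D (e.l :: A) e.l (xU D e.l t) t ∧ IsCh D (e.l :: A) e.s (xU D e.l t) 0 :=
    fun t => ⟨by simpa using IsCh.gen S.tab S.hC hil (s := e.l) (by simp) t,
      by simpa [Ne.symm hsl'] using IsCh.gen S.tab S.hC his (s := e.l) (by simp) t⟩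
  obtain ⟨h5, h6⟩ := IsCh.act S.tab S.hC hact hg (gl (-1)).1 (gl (-1)).2
  have h7 := (gl 1).1.mul S.tab S.hC hil h5
  have h8 := (gl 1).2.mul S.tab S.hC his h6
  rw [add_neg_cancel] at h7
  rw [zero_add, zero_add, mul_one] at h8
  change IsCh D (e.l :: A) e.l (wEl D P f e) 0 at h7
  change IsCh D (e.l :: A) e.s (wEl D P f e) ((e.N : K) * -1) at h8
  obtain ⟨a, -, ha, w, -, hw, ew⟩ := S.split hspl hwR.1 (h7.mem S.tab S.hC hil)
  rw [ha.unique S.tab S.hC hil h7, S.orbX_zero hlo, one_mul] at ew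
  have hmA : wEl D P f e ∈ rootClosure D K (· ∈ A) := by
    rw [ew]
    exact rootClosure_mono (fun r _ hr => (List.mem_cons.1 hr.1).resolve_left fun x =>
      hr.2 (x ▸ mem_orbR_self P e.l)) hw
  have hs1 : IsCh D A e.s (wEl D P f e) ((e.N : K) * -1) := by
    obtain ⟨b, hb⟩ := exists_ch S.tab S.hC (hAo.2.2 _ (mem_orbR_self P _)) hmA
    have := (hb.mono S.tab (S' := e.l :: A) fun x hx => List.mem_cons_of_mem _ hx).unique S.tab S.hC
      his h8
    rwa [this] at hb
  have hc0 : (e.N : K) * -1 ≠ 0 := by rcases hN with h | h <;> simp [h]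
  have hlt : ∀ i ∈ orbR P e.s, i < D.nroots := fun i hi =>
    ((S.orb_spec (K := K) hAo.1).1 i hi).2
  have hcoef : ∀ i < D.nroots, ∀ b : K, b ≠ 0 → P.coef f i b ≠ 0 := fun i hi b hb => by
    rw [S.coef_eq]
    refine mul_ne_zero ?_ ((map_ne_zero f).2 hb)
    rcases S.eps_cases (K := K) hi with h | h <;> rw [h] <;> simp
  have hfix := S.sys.le_fix hwR.1
  intro i hi
  by_cases h0 : i = e.s
  · exact ⟨_, hc0, h0 ▸ hs1⟩
  by_cases h1 : P.rho e.s = e.s
  · simp [orbR, h1] at hi; exact absurd hi h0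
  have hs : P.rho e.s ∈ orbR P e.s := by simp only [orbR, if_neg h1]; split_ifs <;> simp
  have hs2 := S.ch_rho (hAo.2.2 _ (mem_orbR_self P _)) (hAo.2.2 _ hs) hAo.2.1 hfix hs1
  by_cases h2 : i = P.rho e.s
  · exact ⟨_, hcoef _ (hlt _ (mem_orbR_self P _)) _ hc0, h2 ▸ hs2⟩
  have h3 : P.rho (P.rho e.s) ≠ e.s := fun x => by
    simp [orbR, h1, x] at hi; exact hi.elim h0 h2
  have hi' : i = P.rho (P.rho e.s) := by
    simp [orbR, h1, h3] at hi; exact hi.resolve_left h0 |>.resolve_left h2
  subst hi'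
  exact ⟨_, hcoef _ (hlt _ hs) _ (hcoef _ (hlt _ (mem_orbR_self P _)) _ hc0),
    S.ch_rho (hAo.2.2 _ hs) (hAo.2.2 _ hi) hAo.2.1 hfix hs2⟩

theorem Setting.prE_word {l : List (Fin D.rank)} {θ' : Fin D.nroots} (hθ : θ'.val = C.theta)
    (hfix : sW D l θ' = θ') (r : Fin D.nroots) :
    prE D (sW D l r).val C.theta = prE D r.val C.theta := by
  have _ := hB
  have := RootCentralizer.prE_sW S.tab.facts l r θ'
  rwa [hfix, hθ] at this

/-- A fixed Weyl element fixing the highest root and not lowering the long roots of the radical is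
trivial. -/
theorem Setting.weyl_eq_one (hW : weylB T spec C = true) {l : List (Fin D.rank)}
    (hwf : S.sys.sig.WFix (sW D l)) {θ' : Fin D.nroots} (hθ : θ'.val = C.theta)
    (hfix : sW D l θ' = θ')
    (hup : ∀ R : Fin D.nroots, R.val ∈ C.LQ →
      sW D l R = R ∨ (sW D l R).val ∈ upQ T C R.val) :
    sW D l = 1 := by
  classical
  have hF := S.tab.facts
  have hn := nroots_eq S.tab.arr (D := D)
  have hrk := rank_eq S.tab.arr (D := D)
  simp only [weylB, Bool.and_eq_true, List.all_eq_true, beq_iff_eq] at hW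
  obtain ⟨⟨⟨ho0, hi0⟩, hht⟩, hcomb⟩ := hW
  set LF := Finset.univ.filter fun R : Fin D.nroots => R.val ∈ C.LQ with hLF
  have hLQ : ∀ R : Fin D.nroots, R.val ∈ C.LQ → (sW D l R).val ∈ C.LQ := by
    intro R hR
    obtain ⟨hQ, hρ, hne⟩ := (S.LQ_iff hB R.isLt).1 hR
    refine (S.LQ_iff hB (sW D l R).isLt).2 ⟨(S.Q_iff hB (sW D l R).isLt).2 ?_, ?_, fun e => ?_⟩
    · rw [S.prE_word hB hθ hfix]
      exact (S.Q_iff hB R.isLt).1 hQ
    · have e := congrArg Fin.val (hwf R)
      rw [show S.sys.sig.rhoF R = R from Fin.ext hρ] at e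
      exact e.symm
    · exact hne (by rw [← hθ, (sW D l).injective ((Fin.ext (e.trans hθ.symm)).trans hfix.symm)])
  have hall : ∀ R : Fin D.nroots, R.val ∈ C.LQ → sW D l R = R := by
    have hle : ∀ R ∈ LF, htT T R.val ≤ htT T (sW D l R).val ∧
        (htT T R.val = htT T (sW D l R).val → sW D l R = R) := by
      intro R hR
      simp only [hLF, Finset.mem_filter] at hR
      rcases hup R hR.2 with e | e
      · rw [e]; exact ⟨le_rfl, fun _ => rfl⟩
      · have := allBelow_spec (hht _ hR.2) (sW D l R).val (hn ▸ (sW D l R).isLt)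
        simp [e] at this
        exact ⟨this.le, fun h => absurd h this.ne⟩
    have himg : LF.image (sW D l) = LF := by
      refine Finset.eq_of_subset_of_card_le (fun x hx => ?_)
        (by rw [Finset.card_image_of_injective _ (sW D l).injective])
      obtain ⟨R, hR, rfl⟩ := Finset.mem_image.1 hx
      simp only [hLF, Finset.mem_filter, Finset.mem_univ, true_and] at hR ⊢
      exact hLQ R hR
    have hsum : ∑ R ∈ LF, htT T R.val = ∑ R ∈ LF, htT T (sW D l R).val := by
      conv_lhs => rw [← himg]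
      rw [Finset.sum_image fun a _ b _ e => (sW D l).injective e]
    intro R hR
    have hR' : R ∈ LF := by simp [hLF, hR]
    exact (hle R hR').2 ((Finset.sum_eq_sum_iff_of_le fun x hx => (hle x hx).1).1 hsum R hR')
  by_contra hne
  obtain ⟨o, ho⟩ := S.sys.exists_orbit rfl hwf hne
  have ho' : ∀ q ∈ (mkOrbs D spec o).nodes, (sW D l (hF.simpleFin q)).val < D.nroots / 2 :=
    fun q hq => ho _ (hF.simple_lt q.val q.isLt).1 ((hF.inSub_simple q.isLt).2 ⟨q, hq, rfl⟩)
  have hnodes : ∀ q : Fin D.rank, q ∈ (mkOrbs D spec o).nodes ↔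
      q.val ∈ (spec.getD o.val ([], [])).1 := fun q => by
    rw [← List.getElem_eq_getD (h := o.isLt)]
    exact mem_filterMap_toFin
  by_cases hoo : o.val = C.o0
  · have hi : C.i0 < D.rank := (S.dom hB).i0_lt
    have h1 := ho' ⟨C.i0, hi⟩ ((hnodes _).2 (by rw [hoo, ho0]; simp))
    have h2 := hall (hF.simpleFin ⟨C.i0, hi⟩) (by
      show D.simple C.i0 ∈ C.LQ
      rw [simple_eq S.tab.arr hi]
      simpa using hi0)
    rw [h2] at h1
    exact absurd h1 (not_lt.2 (hF.simple_lt C.i0 hi).1)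
  have hc := (allBelow_spec hcomb o.val o.isLt)
  simp only [Bool.or_eq_true, Nat.beq_eq, List.any_eq_true, Bool.and_eq_true, List.elem_eq_mem,
    decide_eq_true_eq] at hc
  obtain ⟨e, -, ⟨⟨-, hp⟩, hm⟩, hco⟩ := hc.resolve_left hoo
  have hfx : ∀ x, x ∈ C.theta :: C.LQ → ∃ h : x < D.nroots, sW D l ⟨x, h⟩ = ⟨x, h⟩ := by
    intro x hx
    rcases List.mem_cons.1 hx with hx | hx
    · subst hx
      refine ⟨(S.theta_spec hB).1, ?_⟩
      rw [show (⟨C.theta, (S.theta_spec hB).1⟩ : Fin D.nroots) = θ' from Fin.ext hθ.symm, hfix]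
    · exact ⟨(S.LQ_pos hB hx).1, hall ⟨x, _⟩ hx⟩
  obtain ⟨hp', hpf⟩ := hfx _ hp
  obtain ⟨hm', hmf⟩ := hfx _ hm
  obtain ⟨q₀, hq₀⟩ := S.sys.orb.nonempty o
  have hj := q₀.isLt
  have hd : ∀ j < D.rank, T.co e.2.1 j - T.co e.2.2 j =
      if j ∈ (spec.getD o.val ([], [])).1 then 1 else 0 := by
    intro j hj
    have := allBelow_spec hco j (hrk ▸ hj)
    rw [beq_iff_eq] at this
    rw [this]
    by_cases hjm : j ∈ (spec.getD o.val ([], [])).1
    · simp [hjm]
    · simp [hjm]
  have h1 := hF.co_sW_lin l ⟨_, hp'⟩ hj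
  have h2 := hF.co_sW_lin l ⟨_, hm'⟩ hj
  rw [hpf] at h1
  rw [hmf] at h2
  have h3 : (1 : ℤ) = ∑ q : Fin D.rank,
      (T.co e.2.1 q.val - T.co e.2.2 q.val) * T.co (sW D l (hF.simpleFin q)).val q₀.val := by
    simp only [sub_mul, Finset.sum_sub_distrib]
    rw [← h1, ← h2, hd _ hj, if_pos ((hnodes q₀).1 hq₀)]
  have h4 : ∑ q : Fin D.rank, (T.co e.2.1 q.val - T.co e.2.2 q.val) *
      T.co (sW D l (hF.simpleFin q)).val q₀.val ≤ 0 := by
    refine Finset.sum_nonpos fun q _ => ?_
    rw [hd _ q.isLt]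
    split_ifs with hq
    · rw [one_mul]
      exact hF.co_nonpos (sW D l (hF.simpleFin q)).isLt (ho' q ((hnodes q).2 hq)) hj
    · simp
  omega

/-- A fixed element commuting with the test elements lies in the radical. -/
theorem Setting.mem_radical (hR : radB T P spec C = true) {d : GL D.Idx K} (hd : d ∈ G)
    (hdx : Commute d (xU D C.theta (1 : K)))
    (hdL : ∀ R ∈ C.LQ, Commute d (xU D R (1 : K)))
    (hdw : ∀ e ∈ C.wts, Commute d (wEl D P f e)) :
    d ∈ rootClosure D K (· ∈ C.Q) := by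
  have hF := S.tab.facts
  have hC := S.hC
  obtain ⟨hθ, hθp, hθρ, hθo⟩ := S.theta_spec hB
  simp only [radB, Bool.and_eq_true, List.all_eq_true] at hR
  obtain ⟨⟨⟨⟨hLc, hWc⟩, hder⟩, hweyl⟩, hkill⟩ := hR
  obtain ⟨b, hb, n, hn, w, hw, hwf, u, -, hu, e⟩ := S.sys.sig.bruhat_fix (S.sys.le_fix hd)
  obtain ⟨u₁, hu₁, h, hh, rfl⟩ := hF.mem_borel_iff.1 hb
  obtain ⟨c, hc⟩ := hF.mem_diagonal_iff.1 hh
  obtain ⟨l, k, hk, hnl⟩ := hF.exists_nW hn
  have hwl : w = sW D l := by
    refine hF.permAct_unique hw ?_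
    rw [hnl]; simpa using hF.permAct_mul (hF.permAct_nW l) (hF.permAct_diagonal hk)
  have hup : u ∈ rootClosure D K (D.nroots / 2 ≤ ·) := rootClosure_mono (fun _ _ h => h.2.1) hu
  have hconj : ∀ z : GL D.Idx K, Commute d z →
      n * (u * z * u⁻¹) * n⁻¹ = h⁻¹ * (u₁⁻¹ * z * u₁) * h := by
    intro z hz
    rw [show u₁⁻¹ * z * u₁ = u₁⁻¹ * (d * z * d⁻¹) * u₁ by rw [hz.eq, mul_inv_cancel_right], e]
    group
  have hx0 : ∀ g ∈ rootClosure D K (D.nroots / 2 ≤ ·),
      g * xU D C.theta (1 : K) * g⁻¹ = xU D C.theta 1 := fun g hg => by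
    rw [(S.commute_theta hB hg).eq, mul_inv_cancel_right]
  have hx1 := hconj _ hdx
  rw [hx0 u hup, show u₁⁻¹ * xU D C.theta (1 : K) * u₁ = xU D C.theta 1 by
    simpa using hx0 _ (Subgroup.inv_mem _ hu₁)] at hx1
  set χ : Fin D.nroots → K := fun r => ((∏ i ∈ Finset.range D.rank, c i ^ D.cartan i r.val : Kˣ) : K)
    with hχ
  have hdiag : ∀ (r : Fin D.nroots) (t : K), h * xU D r.val t * h⁻¹ = xU D r.val (χ r * t) :=
    fun r t => by rw [hc, hF.hT_conj_xU c r.isLt]
  set θ' : Fin D.nroots := ⟨C.theta, hθ⟩ with hθ'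
  have hwθ : w θ' = θ' := by
    obtain ⟨a, ha, hw', -⟩ := hw θ'
    rw [show n * xU D C.theta (1 : K) * n⁻¹ = xU D (w θ').val (a * 1) from hw' 1, mul_one] at hx1
    have h2 : h * xU D (w θ').val a * h⁻¹ = xU D C.theta 1 := by rw [hx1]; group
    rw [hdiag] at h2
    exact Fin.ext (hF.xU_root_unique (w θ').isLt hθ (mul_ne_zero (Units.ne_zero _) ha) h2)
  subst hwl
  have hkeep : ∀ {A : List ℕ} {x : GL D.Idx K}, x ∈ rootClosure D K (· ∈ A) →
      h⁻¹ * x * h ∈ rootClosure D K (· ∈ A) := by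
    intro A x hx
    have := hF.conj_rootClosure (hF.permAct_diagonal (Subgroup.inv_mem _ hh))
      (P := (· ∈ A)) (Q := (· ∈ A)) (fun s hs => by simpa using hs) hx
    rwa [inv_inv] at this
  have hup' : ∀ R : Fin D.nroots, R.val ∈ C.LQ →
      sW D l R = R ∨ (sW D l R).val ∈ upQ T C R.val := by
    intro R hR
    have hLB := hLc _ hR
    simp only [longB, Bool.and_eq_true] at hLB
    obtain ⟨⟨hiQ, hpres⟩, -⟩ := hLB
    have hiA : indB T (R.val :: upQ T C R.val) R.val = true := by
      have := hpres; simp only [presB, actB, Bool.and_eq_true] at this; exact this.1.1.2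
    have hz : IsCh D (R.val :: upQ T C R.val) R.val (xU D R.val (1 : K)) 1 := by
      simpa using IsCh.gen S.tab hC hiA (s := R.val) (by simp) (1 : K)
    have h1 := S.pres hB hpres hup hz
    by_contra hcon
    simp only [not_or] at hcon
    have hwQ : (sW D l R).val ∈ C.LQ := by
      obtain ⟨hQ, hρ, hne⟩ := (S.LQ_iff hB R.isLt).1 hR
      refine (S.LQ_iff hB (sW D l R).isLt).2 ⟨(S.Q_iff hB (sW D l R).isLt).2 ?_, ?_, fun e => ?_⟩
      · rw [S.prE_word hB rfl hwθ]; exact (S.Q_iff hB R.isLt).1 hQ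
      · have e := congrArg Fin.val (hwf R)
        rw [show S.sys.sig.rhoF R = R from Fin.ext hρ] at e
        exact e.symm
      · exact hne (by
          rw [(sW D l).injective ((Fin.ext (a := sW D l R) (b := θ') e).trans hwθ.symm)])
    have hiw : indB T C.Q (sW D l R).val = true := by
      have := hLc _ hwQ; simp only [longB, Bool.and_eq_true] at this; exact this.1.1
    choose! ν hν0 hν using fun s : Fin D.nroots => hw s
    have hmemA : ∀ s ∈ R.val :: upQ T C R.val, s ∈ C.Q := fun s hs => by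
      rcases List.mem_cons.1 hs with hs | hs
      exacts [hs ▸ ((S.LQ_iff hB R.isLt).1 hR).1, upQ_sub hs]
    have h2 := IsCh.perm S.tab (S := R.val :: upQ T C R.val) (S' := C.Q) (r := R.val) (g := n)
      (fun s => if hs : s < D.nroots then (sW D l ⟨s, hs⟩).val else 0)
      (fun s => if hs : s < D.nroots then ν ⟨s, hs⟩ else 0)
      (fun s hs => by
        have hsn := (S.Q_pos hB (hmemA s hs)).1
        simp only [dif_pos hsn, dif_pos R.isLt]
        refine ⟨(sW D l ⟨s, hsn⟩).isLt, (S.Q_iff hB (sW D l ⟨s, hsn⟩).isLt).2 ?_, fun hne x => hne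
          (congrArg Fin.val ((sW D l).injective (Fin.ext x))), (hν ⟨s, hsn⟩).1⟩
        rw [S.prE_word hB rfl hwθ]
        exact (S.Q_iff hB hsn).1 (hmemA s hs))
      (by simp) h1
    simp only [dif_pos R.isLt, mul_one, Fin.eta] at h2
    rw [hconj _ (hdL _ hR)] at h2
    have h3 : h⁻¹ * (u₁⁻¹ * xU D R.val (1 : K) * u₁) * h ∈
        rootClosure D K (fun s => s ∈ C.Q ∧ s ≠ (sW D l R).val) := by
      have h4 := S.pres hB hpres (Subgroup.inv_mem _ hu₁) hz
      rw [inv_inv] at h4
      refine rootClosure_mono (fun s _ hs => ?_) (hkeep (h4.mem S.tab hC hiA))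
      refine ⟨hmemA s hs, fun x => ?_⟩
      rcases List.mem_cons.1 hs with hs | hs
      · exact hcon.1 (Fin.ext (x.symm.trans hs))
      · exact hcon.2 (x ▸ hs)
    exact hν0 R (h2.unique S.tab hC hiw (IsCh.zero S.tab hC hiw h3))
  have hw1 := S.weyl_eq_one hB hweyl hwf rfl hwθ hup'
  rw [hw1] at hw
  have hnd := hF.mem_diagonal_of_permAct hn hw
  -- the element is positive unipotent times diagonal
  set u' := u₁ * (h * n * u * (h * n)⁻¹) with hu'
  set t := h * n with ht
  have htd : t ∈ D.diagonalSubgroup K := Subgroup.mul_mem _ hh hnd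
  have hu'p : u' ∈ rootClosure D K (D.nroots / 2 ≤ ·) := by
    refine Subgroup.mul_mem _ hu₁ ?_
    exact hF.conj_rootClosure (hF.permAct_diagonal htd) (P := (D.nroots / 2 ≤ ·))
      (Q := (D.nroots / 2 ≤ ·)) (fun s hs => by simpa using hs) hup
  have hdt : d = u' * t := by rw [hu', ht, e]; group
  obtain ⟨c', hc'⟩ := hF.mem_diagonal_iff.1 htd
  set ψ : ℕ → Kˣ := fun r => ∏ i ∈ Finset.range D.rank, c' i ^ D.cartan i r with hψ
  have htz : ∀ {A : List ℕ} {r : ℕ} {x : GL D.Idx K} {b : K}, indB T A r = true →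
      IsCh D A r x b → IsCh D A r (t * x * t⁻¹) ((ψ r : K) * b) := by
    intro A r x b hA hx
    obtain ⟨hrA, hAp⟩ := pos_of_ind S.tab hC hA
    exact IsCh.perm S.tab (g := t) (fun s => s) (fun s => (ψ s : K)) (fun s hs =>
      ⟨(hAp s hs).2, hs, fun hne => hne, fun a => by rw [hc', hF.hT_conj_xU c' (hAp s hs).2]⟩)
      hrA hx
  have hone : ∀ {A : List ℕ} {r : ℕ} {z : GL D.Idx K} {b : K}, presB T P C A r = true →
      Commute d z → IsCh D A r z b → b ≠ 0 → ψ r = 1 := by
    intro A r z b hp hz hzc hb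
    have hA : indB T A r = true := by
      have := hp; simp only [presB, actB, Bool.and_eq_true] at this; exact this.1.1.2
    have h1 := S.pres hB hp hu'p (htz hA hzc)
    rw [show u' * (t * z * t⁻¹) * u'⁻¹ = d * z * d⁻¹ by rw [hdt]; group, hz.eq,
      mul_inv_cancel_right] at h1
    exact Units.ext (mul_right_cancel₀ hb ((h1.unique S.tab hC hA hzc).trans (one_mul b).symm))
  have hbase : ∀ r ∈ C.theta :: C.LQ ++ C.wts.flatMap fun e => orbR P e.s,
      r < D.nroots ∧ ψ r = 1 := by
    intro r hr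
    simp only [List.cons_append, List.mem_cons, List.mem_append, List.mem_flatMap] at hr
    rcases hr with rfl | hr | ⟨e', he', hr⟩
    · refine ⟨hθ, Units.ext (hF.xU_left_inj hθ ?_)⟩
      have h1 : t * xU D C.theta (1 : K) * t⁻¹ = xU D C.theta (ψ C.theta : K) := by
        rw [hc', hF.hT_conj_xU c' hθ, mul_one]
      rw [Units.val_one, ← h1]
      have h2 := hx0 _ (Subgroup.inv_mem _ hu'p)
      rw [inv_inv] at h2
      calc t * xU D C.theta (1 : K) * t⁻¹
          = u'⁻¹ * (d * xU D C.theta 1 * d⁻¹) * u' := by rw [hdt]; group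
        _ = u'⁻¹ * xU D C.theta 1 * u' := by rw [hdx.eq, mul_inv_cancel_right]
        _ = xU D C.theta 1 := h2
    · have hLB := hLc _ hr
      simp only [longB, Bool.and_eq_true] at hLB
      have hA : indB T (r :: upQ T C r) r = true := by
        have := hLB.1.2; simp only [presB, actB, Bool.and_eq_true] at this; exact this.1.1.2
      exact ⟨(S.LQ_pos hB hr).1, hone hLB.1.2 (hdL _ hr)
        (IsCh.gen S.tab hC hA (s := r) (by simp) (1 : K)) (by simp)⟩
    · obtain ⟨hch, -⟩ := S.wEl_spec hB (hWc _ he')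
      obtain ⟨b, hb, hbc⟩ := hch r hr
      have hT' := hWc _ he'
      simp only [testB, Bool.and_eq_true, List.all_eq_true, List.elem_eq_mem,
        decide_eq_true_eq] at hT'
      exact ⟨(S.Q_pos hB (hT'.1.1.1.1.2 r hr)).1, hone (hT'.2 r hr) (hdw _ he') hbc hb⟩
  have hclose : ∀ (ds : List (ℕ × ℕ × ℕ)) (kn : List ℕ), derB T (allP P C) ds kn = true →
      (∀ r ∈ kn, r < D.nroots ∧ ψ r = 1) → ∀ r ∈ allP P C, ψ r = 1 := by
    intro ds
    induction ds with
    | nil =>
      intro kn hk hkn r hr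
      simp only [derB, List.all_eq_true, List.elem_eq_mem, decide_eq_true_eq] at hk
      exact (hkn r (hk r hr)).2
    | cons x ds ih =>
      obtain ⟨r, s, k⟩ := x
      intro kn hk hkn
      simp only [derB, Bool.and_eq_true, Bool.or_eq_true, List.elem_eq_mem, decide_eq_true_eq,
        Nat.blt_eq] at hk
      obtain ⟨⟨⟨⟨⟨hr, hsk⟩, hrn⟩, hsn⟩, hterm⟩, hrec⟩ := hk
      rw [← nroots_eq S.tab.arr (D := D)] at hrn hsn
      refine ih _ hrec ?_
      generalize hL : termsT T r s = L at hterm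
      cases L with
      | nil => simp at hterm
      | cons y L =>
        simp only [Bool.and_eq_true, Nat.beq_eq] at hterm
        obtain ⟨⟨h1, h2⟩, h3⟩ := hterm
        obtain ⟨hkn', -, -, hwt⟩ := hF.commTerms_wt (hF.isWeight_hT c') hrn hsn (c := y) (by
          rw [termsT_eq S.tab.arr S.tab.chain S.tab.short hrn hsn, hL]; simp)
        rw [h1] at hkn'
        simp only [h1, h2, h3, one_smul, ← ofMul_mul, Equiv.apply_eq_iff_eq] at hwt
        change ψ k = ψ r * ψ s at hwt
        rw [(hkn r hr).2, one_mul] at hwt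
        have hs1 : ψ s = 1 := by
          rcases hsk with h' | h'
          exacts [(hkn s h').2, hwt ▸ (hkn k h').2]
        intro x hx
        rcases List.mem_cons.1 hx with hx | hx
        · exact hx ▸ ⟨hsn, hs1⟩
        rcases List.mem_cons.1 hx with hx | hx
        · exact hx ▸ ⟨hkn', hwt.trans hs1⟩
        · exact hkn x hx
  have ht1 : t = 1 := by
    have hp := hclose _ _ hder hbase
    rw [hc', hT, ← dU_one]
    refine dU_congr fun r hr => ?_
    by_cases hrp : D.nroots / 2 ≤ r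
    · exact hp r ((S.allP_iff hB hr).2 hrp)
    · have h1 := hp _ ((S.allP_iff hB (hF.neg_lt hr)).2
        ((hF.negFin_pos ⟨r, hr⟩).2 (not_le.1 hrp)))
      have h2 := (hF.isWeight_hT c').neg r hr
      simp only [← ofMul_inv, Equiv.apply_eq_iff_eq] at h2
      change ψ (D.neg r) = (ψ r)⁻¹ at h2
      rw [h1, eq_comm, inv_eq_one] at h2
      exact h2
  rw [ht1, mul_one] at hdt
  subst hdt
  -- the orbits outside the radical
  simp only [killB, Bool.and_eq_true, List.all_eq_true, List.elem_eq_mem, decide_eq_true_eq] at hkill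
  obtain ⟨⟨hstart, -⟩, hks⟩ := hkill
  have main : ∀ i ≤ C.Lo.length, ∀ g ∈ G, g ∈ rootClosure D K (· ∈ restL P C.Lo i ++ C.Q) →
      (∀ R ∈ C.LQ, Commute g (xU D R (1 : K))) → g ∈ rootClosure D K (· ∈ C.Q) := by
    intro i hi
    induction hm : C.Lo.length - i generalizing i with
    | zero =>
      intro g _ hg _
      refine rootClosure_mono (fun r _ hr => ?_) hg
      simpa [restL, List.drop_eq_nil_of_le (show C.Lo.length ≤ i by omega)] using hr
    | succ m ih =>
      intro g hgG hg hgL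
      have hi' : i < C.Lo.length := by omega
      have hk' := allBelow_spec hks i hi'
      set K₀ := C.Lo.getD i 0 with hK₀
      set e' := C.kills.getD i ⟨0, 0, 0, 0⟩ with he'
      simp only [Bool.and_eq_true, Bool.or_eq_true, List.elem_eq_mem, decide_eq_true_eq,
        beq_iff_eq, Bool.not_eq_true'] at hk'
      obtain ⟨⟨⟨⟨⟨hsp, hRL⟩, hsrc⟩, hN⟩, htR⟩, hact⟩ := hk'
      obtain ⟨a, -, -, w, hwG, hwm, rfl⟩ := S.split hsp hgG hg
      have hsp' := hsp
      simp only [splitB, Bool.and_eq_true, List.all_eq_true] at hsp'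
      have hind := hsp'.1.2 _ hsrc
      have hact' := hact
      simp only [actB, Bool.and_eq_true] at hact'
      have hch : IsCh D (restL P C.Lo i ++ C.Q) e'.src (orbX D P f K₀ a * w) (crd P f K₀ a e'.src) := by
        have h1 := (S.orbX_ch hsp'.1.1.1 (L := restL P C.Lo i ++ C.Q) (fun j hj => by
          rw [restL_cons P hi']; exact List.mem_append_left _ (List.mem_append_left _ hj)) hsrc hind a).mul S.tab hC hind
          (IsCh.zero S.tab hC hind (rootClosure_mono (fun r _ hr =>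
            ⟨hr.1, fun x => hr.2 (x ▸ hsrc)⟩) hwm))
        rwa [add_zero] at h1
      obtain ⟨-, h6⟩ := IsCh.act S.tab hC hact hch
        (x := xU D e'.R (1 : K)) (b := 1) (e := 0)
        (by simpa using IsCh.gen S.tab hC hact'.1.1.2 (s := e'.R) (by simp) (1 : K))
        (by simpa [show e'.R ≠ e'.t from fun x => by rw [x] at htR; simp at htR] using
          IsCh.gen S.tab hC hact'.1.2 (s := e'.R) (by simp) (1 : K))
      rw [(hgL _ hRL).eq, mul_inv_cancel_right] at h6
      have h7 := h6.unique S.tab hC hact'.1.2 (by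
        simpa [show e'.R ≠ e'.t from fun x => by rw [x] at htR; simp at htR] using
          IsCh.gen S.tab hC hact'.1.2 (s := e'.R) (by simp) (1 : K))
      rw [zero_add, mul_one, S.crd_eq, ← mul_assoc, ← Int.cast_mul] at h7
      have ha0 : a = 0 := by
        rcases hN with h' | h' <;> rw [h'] at h7
        · simp only [Int.cast_one, one_mul] at h7
          exact iterate_eq_zero f h7
        · simp only [Int.cast_neg, Int.cast_one, neg_mul, one_mul, neg_eq_zero] at h7
          exact iterate_eq_zero f h7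
      subst ha0
      rw [S.orbX_zero hsp'.1.1.1, one_mul] at hgL ⊢
      refine ih (i + 1) (by omega) (by omega) w hwG (rootClosure_mono (fun r _ hr => ?_) hwm) hgL
      rw [restL_cons P hi', List.append_assoc] at hr
      exact (List.mem_append.1 hr.1).resolve_left hr.2
  refine main 0 (Nat.zero_le _) _ hd ?_ hdL
  rw [S.pos_eq_allP hB] at hu'p
  exact rootClosure_mono (fun r _ hr => hstart r hr) hu'p

end CfsgLib.Chev.SubfieldMax
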