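import Cfsg.Agent.Lib.Known.SubfieldMax.Coord
import Cfsg.Agent.Lib.Known.LacedInvol.Classes
import Cfsg.Agent.Lib.Chev.Twist.Enum

/-!
# Twisted groups with their subgroup of rational points

Orbit elements, the splitting of a fixed element at the orbit of an indecomposable root, and the
orbit words, which are rational and permute the root elements up to a sign.
-/

set_option autoImplicit false
set_option synthInstance.maxSize 4000

namespace CfsgLib.Chev.SubfieldMax

open Cfsg.Lie CfsgLib.Chev.Table CfsgLib.Chev.EvenInvol CfsgLib.Chev.FixedPoints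

universe v

/-- A twisted group on the tables, with the orbit words among its elements. -/
structure Setting {D : ChevalleyDatum} (T : Tab) (P : TwPar) (spec : List (List ℕ × List ℕ))
    {K : Type v} [Field K] (f : K →+* K) (σ : ↥(D.group K) →* GL D.Idx K)
    (G : Subgroup (GL D.Idx K)) : Prop where
  tab : TabOK D T
  sys : TwSys D T.co P f σ (mkOrbs D spec) G
  lam : ∀ r, P.lam r = 1
  nW_mem : ∀ o, nW D K (mkOrbs D spec o).word ∈ G
  tau_mem : ∀ g ∈ G, gMap D f g ∈ G

/-- The number of roots in the orbit of `r`. -/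
def olen (P : TwPar) (r : ℕ) : ℕ :=
  if P.rho r = r then 1 else if P.rho (P.rho r) = r then 2 else 3

/-- The roots of the orbit of `r`. -/
def orbR (P : TwPar) (r : ℕ) : List ℕ :=
  if P.rho r = r then [r] else if P.rho (P.rho r) = r then [r, P.rho r]
  else [r, P.rho r, P.rho (P.rho r)]

/-- The check of an orbit of positive roots. -/
def orbitB (T : Tab) (P : TwPar) (r : ℕ) : Bool :=
  (orbR P r).all (fun i => Nat.ble (T.nroots / 2) i && Nat.blt i T.nroots &&
    (orbR P r).all fun j => Nat.beq i j ||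
      (!Nat.beq j (T.neg i) && (termsT T i j).isEmpty && (termsT T j i).isEmpty)) &&
  (bif Nat.beq (P.rho r) r then P.eps r == 1
    else bif Nat.beq (P.rho (P.rho r)) r then P.eps r * P.eps (P.rho r) == 1
    else Nat.beq (P.rho (P.rho (P.rho r))) r &&
      (P.eps r * P.eps (P.rho r) * P.eps (P.rho (P.rho r)) == 1))

/-- The image of a root under a word of orbit reflections. -/
def imgW (T : Tab) (spec : List (List ℕ × List ℕ)) (ws : List ℕ) (r : ℕ) : ℕ :=
  LacedInvol.actT T (ws.flatMap fun o => (spec.getD o ([], [])).2) r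

variable {D : ChevalleyDatum} {T : Tab} {P : TwPar} {spec : List (List ℕ × List ℕ)}
  {K : Type v} [Field K] {f : K →+* K} {σ : ↥(D.group K) →* GL D.Idx K}
  {G : Subgroup (GL D.Idx K)}

/-- The orbit element with parameter `a` at `r`. -/
noncomputable def orbX (D : ChevalleyDatum) (P : TwPar) (f : K →+* K) (r : ℕ) (a : K) :
    GL D.Idx K :=
  if P.rho r = r then xU D r a
  else if P.rho (P.rho r) = r then xU D r a * xU D (P.rho r) (P.coef f r a)
  else xU D r a * xU D (P.rho r) (P.coef f r a) *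
    xU D (P.rho (P.rho r)) (P.coef f (P.rho r) (P.coef f r a))

/-- An admissible parameter. -/
def OkA (P : TwPar) (f : K →+* K) (r : ℕ) (a : K) : Prop := f^[olen P r] a = a

variable (S : Setting T P spec f σ G)
include S

theorem Setting.hC : CommF.{v} D := S.sys.sig.hC

theorem Setting.coef_eq (r : ℕ) (t : K) : P.coef f r t = (P.eps r : K) * f t := by
  simp [TwPar.coef, S.lam]

theorem Setting.eps_cases {r : ℕ} (hr : r < D.nroots) :
    (P.eps r : K) = 1 ∨ (P.eps r : K) = -1 := by
  rcases S.sys.sig.ok.eps_pm r hr with e | e <;> simp [e]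

theorem Setting.coef_fixed_iff {r : ℕ} (hr : r < D.nroots) (a : K) :
    f (P.coef f r a) = P.coef f r a ↔ f a = a := by
  rw [S.coef_eq]
  rcases S.eps_cases hr with e | e <;> rw [e] <;> simp [f.injective.eq_iff]

theorem Setting.orb_spec {r : ℕ} (h : orbitB T P r = true) :
    (∀ i ∈ orbR P r, D.nroots / 2 ≤ i ∧ i < D.nroots) ∧
    (∀ i ∈ orbR P r, ∀ j ∈ orbR P r, ∀ a b : K, Commute (xU D i a) (xU D j b)) := by
  simp only [orbitB, Bool.and_eq_true, List.all_eq_true, Nat.ble_eq, Nat.blt_eq,
    Bool.or_eq_true, Nat.beq_eq, Bool.not_eq_true', List.isEmpty_iff] at h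
  have hn := nroots_eq S.tab.arr
  have hb : ∀ i ∈ orbR P r, D.nroots / 2 ≤ i ∧ i < D.nroots := fun i hi => by
    rw [hn]; exact (h.1 i hi).1
  refine ⟨hb, fun i hi j hj a b => ?_⟩
  by_cases e : j = i
  · subst e
    show _ = _
    rw [S.tab.facts.xU_add (hb j hj).2, S.tab.facts.xU_add (hb j hj).2, add_comm]
  obtain ⟨⟨h1, h2⟩, -⟩ := ((h.1 i hi).2 j hj).resolve_left (fun e' => e e'.symm)
  refine LacedInvol.commute_nil S.tab.facts S.hC (hb i hi).2 (hb j hj).2 e (fun e' => ?_) ?_ a b
  · rw [neg_eq S.tab.arr (hb i hi).2] at e'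
    rw [e'] at h1; simp at h1
  · rw [termsT_eq S.tab.arr S.tab.chain S.tab.short (hb i hi).2 (hb j hj).2, h2]

theorem Setting.orbX_mem_closure {r : ℕ} (h : orbitB T P r = true) (a : K) {Q : ℕ → Prop}
    (hQ : ∀ i ∈ orbR P r, Q i) : orbX D P f r a ∈ rootClosure D K Q := by
  obtain ⟨hb, -⟩ := S.orb_spec h
  have g : ∀ i ∈ orbR P r, ∀ c : K, xU D i c ∈ rootClosure D K Q := fun i hi c =>
    xU_mem_rootClosure (hb i hi).2 (hQ i hi) c
  unfold orbX
  split_ifs with h1 h2
  · exact g r (by simp [orbR, h1]) a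
  · exact Subgroup.mul_mem _ (g r (by simp [orbR, h1, h2]) _) (g _ (by simp [orbR, h1, h2]) _)
  · exact Subgroup.mul_mem _ (Subgroup.mul_mem _ (g r (by simp [orbR, h1, h2]) _)
      (g _ (by simp [orbR, h1, h2]) _)) (g _ (by simp [orbR, h1, h2]) _)

theorem Setting.orbX_mem {r : ℕ} (h : orbitB T P r = true) {a : K} (ha : OkA P f r a) :
    orbX D P f r a ∈ G := by
  obtain ⟨hb, hcomm⟩ := S.orb_spec h
  refine S.sys.posU_le ⟨mem_fixS.2 ?_,
    S.orbX_mem_closure h a (Q := (D.nroots / 2 ≤ ·)) fun i hi => (hb i hi).1⟩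
  have hi : ∀ {i}, i ∈ orbR P r → ∀ t : K, Img σ (xU D i t) (xU D (P.rho i) (P.coef f i t)) :=
    fun him t => S.sys.sig.img_xU (hb _ him).2 t
  simp only [orbitB, Bool.and_eq_true] at h
  have he := h.2
  unfold orbX
  split_ifs with h1 h2
  · rw [show Nat.beq (P.rho r) r = true by rw [h1]; simp, cond_true, beq_iff_eq] at he
    have := hi (i := r) (by simp [orbR, h1]) a
    rw [h1, S.coef_eq, he, Int.cast_one, one_mul] at this
    simp only [OkA, olen, if_pos h1, Function.iterate_one] at ha
    rwa [ha] at this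
  · rw [show Nat.beq (P.rho r) r = false from Bool.eq_false_iff.2 fun e => h1
        (Nat.eq_of_beq_eq_true e), cond_false,
      show Nat.beq (P.rho (P.rho r)) r = true by rw [h2]; simp, cond_true, beq_iff_eq] at he
    have hr : r ∈ orbR P r := by simp [orbR, h1, h2]
    have hs : P.rho r ∈ orbR P r := by simp [orbR, h1, h2]
    have := (hi hr a).mul (hi hs (P.coef f r a))
    rw [h2] at this
    simp only [OkA, olen, if_neg h1, if_pos h2, Function.iterate_succ, Function.iterate_zero,
      Function.comp_apply, id_eq] at ha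
    have e2 : P.coef f (P.rho r) (P.coef f r a) = a := by
      rw [S.coef_eq, S.coef_eq, map_mul, map_intCast, ha, ← mul_assoc, ← Int.cast_mul, mul_comm
        (P.eps _), he, Int.cast_one, one_mul]
    rwa [e2, (hcomm _ hs _ hr _ _).eq] at this
  · rw [show Nat.beq (P.rho r) r = false from Bool.eq_false_iff.2 fun e => h1
        (Nat.eq_of_beq_eq_true e), cond_false,
      show Nat.beq (P.rho (P.rho r)) r = false from Bool.eq_false_iff.2 fun e => h2
        (Nat.eq_of_beq_eq_true e), cond_false, Bool.and_eq_true, Nat.beq_eq, beq_iff_eq] at he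
    obtain ⟨h3, he⟩ := he
    have hr : r ∈ orbR P r := by simp [orbR, h1, h2]
    have hs : P.rho r ∈ orbR P r := by simp [orbR, h1, h2]
    have ht : P.rho (P.rho r) ∈ orbR P r := by simp [orbR, h1, h2]
    have := ((hi hr a).mul (hi hs (P.coef f r a))).mul (hi ht (P.coef f (P.rho r) (P.coef f r a)))
    rw [h3] at this
    simp only [OkA, olen, if_neg h1, if_neg h2, Function.iterate_succ, Function.iterate_zero,
      Function.comp_apply, id_eq] at ha
    have e3 : P.coef f (P.rho (P.rho r)) (P.coef f (P.rho r) (P.coef f r a)) = a := by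
      simp only [S.coef_eq, map_mul, map_intCast, ha, ← mul_assoc, ← Int.cast_mul]
      rw [show P.eps (P.rho (P.rho r)) * P.eps (P.rho r) * P.eps r =
        P.eps r * P.eps (P.rho r) * P.eps (P.rho (P.rho r)) by ring, he, Int.cast_one, one_mul]
    rw [e3] at this
    have hc := ((hcomm _ hr _ hs a (P.coef f r a)).mul_right
      (hcomm _ hr _ ht a (P.coef f (P.rho r) (P.coef f r a)))).eq
    rw [← mul_assoc] at hc
    rwa [← hc] at this

theorem Setting.orbX_fixed {r : ℕ} (h : orbitB T P r = true) {a : K} (ha : f a = a) :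
    gMap D f (orbX D P f r a) = orbX D P f r a := by
  obtain ⟨hb, -⟩ := S.orb_spec h
  have g : ∀ i ∈ orbR P r, ∀ c : K, f c = c → gMap D f (xU D i c) = xU D i c := fun i hi c hc => by
    rw [gMap_xU S.tab.facts f (hb i hi).2, hc]
  have c1 : ∀ i ∈ orbR P r, ∀ c : K, f c = c → f (P.coef f i c) = P.coef f i c := fun i hi c hc =>
    (S.coef_fixed_iff (hb i hi).2 c).2 hc
  unfold orbX
  split_ifs with h1 h2
  · exact g r (by simp [orbR, h1]) a ha
  · have hr : r ∈ orbR P r := by simp [orbR, h1, h2]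
    rw [map_mul, g r hr a ha, g _ (by simp [orbR, h1, h2]) _ (c1 r hr a ha)]
  · have hr : r ∈ orbR P r := by simp [orbR, h1, h2]
    have hs : P.rho r ∈ orbR P r := by simp [orbR, h1, h2]
    rw [map_mul, map_mul, g r hr a ha, g _ hs _ (c1 r hr a ha),
      g _ (by simp [orbR, h1, h2]) _ (c1 _ hs _ (c1 r hr a ha))]

/-- The coordinates of a fixed element follow the twist. -/
theorem Setting.ch_rho {L : List ℕ} {r : ℕ} (h : indB T L r = true)
    (h' : indB T L (P.rho r) = true) (hL : L.all (fun i => L.elem (P.rho i)) = true)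
    {g : GL D.Idx K} (hg : g ∈ fixS σ) {t : K} (ht : IsCh D L r g t) :
    IsCh D L (P.rho r) g (P.coef f r t) := by
  obtain ⟨hr, hpos⟩ := pos_of_ind S.tab S.hC h
  obtain ⟨w, hw, ew⟩ := S.sys.sig.img_rootClosure (B := fun s => s ∈ L ∧ s ≠ P.rho r)
    (fun i hiN hi => ⟨by simpa using List.all_eq_true.1 hL i hi.1, fun e =>
      hi.2 (S.sys.sig.ok.rho_inj i hiN r (hpos r hr).2 e)⟩) ht
  have e := ((S.sys.sig.img_xU (hpos r hr).2 t).mul ew).unique
    (by rw [mul_inv_cancel_left]; exact hg)
  rw [IsCh, ← e, inv_mul_cancel_left]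
  exact hw

/-- The lists left when the orbit of `r` is removed root by root. -/
def splitB (T : Tab) (P : TwPar) (L : List ℕ) (r : ℕ) : Bool :=
  orbitB T P r && L.all (fun i => L.elem (P.rho i)) && (orbR P r).all (fun i => indB T L i) &&
    ((orbR P r).length == 1 || indB T (L.filter fun i => !Nat.beq i r) (P.rho r) &&
      ((orbR P r).length == 2 ||
        indB T ((L.filter fun i => !Nat.beq i r).filter fun i => !Nat.beq i (P.rho r))
          (P.rho (P.rho r))))

omit S in
theorem mem_filter_ne {L : List ℕ} {r i : ℕ} :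
    i ∈ L.filter (fun i => !Nat.beq i r) ↔ i ∈ L ∧ i ≠ r := by
  simp only [List.mem_filter, Bool.not_eq_true', and_congr_right_iff]
  intro _
  exact ⟨fun h e => by subst e; simp at h,
    fun h => Bool.eq_false_iff.2 fun e => h (Nat.eq_of_beq_eq_true e)⟩

/-- A fixed element splits off its orbit element. -/
theorem Setting.split {L : List ℕ} {r : ℕ} (h : splitB T P L r = true) {g : GL D.Idx K}
    (hg : g ∈ G) (hm : g ∈ rootClosure D K (· ∈ L)) :
    ∃ a, OkA P f r a ∧ IsCh D L r g a ∧ ∃ w ∈ G,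
      w ∈ rootClosure D K (fun i => i ∈ L ∧ i ∉ orbR P r) ∧ g = orbX D P f r a * w := by
  simp only [splitB, Bool.and_eq_true, List.all_eq_true, Bool.or_eq_true, beq_iff_eq] at h
  obtain ⟨⟨⟨ho, hLρ⟩, hind⟩, hrest⟩ := h
  have hLρ' : L.all (fun i => L.elem (P.rho i)) = true := List.all_eq_true.2 hLρ
  obtain ⟨hb, -⟩ := S.orb_spec ho
  have hfix := S.sys.le_fix hg
  have hr : r ∈ orbR P r := by unfold orbR; split_ifs <;> simp
  obtain ⟨a, ha⟩ := exists_ch S.tab S.hC (hind r hr) hm
  suffices H : OkA P f r a ∧ (orbX D P f r a)⁻¹ * g ∈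
      rootClosure D K (fun i => i ∈ L ∧ i ∉ orbR P r) by
    exact ⟨a, H.1, ha, _, Subgroup.mul_mem _ (Subgroup.inv_mem _ (S.orbX_mem ho H.1)) hg, H.2,
      (mul_inv_cancel_left _ _).symm⟩
  by_cases h1 : P.rho r = r
  · refine ⟨?_, ?_⟩
    · have := S.ch_rho (hind r hr) (by rw [h1]; exact hind r hr) hLρ' hfix ha
      rw [h1] at this
      have e := ha.unique S.tab S.hC (hind r hr) this
      simp only [orbitB, Bool.and_eq_true] at ho
      have he := ho.2
      rw [show Nat.beq (P.rho r) r = true by rw [h1]; simp, cond_true, beq_iff_eq] at he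
      rw [S.coef_eq, he, Int.cast_one, one_mul] at e
      simp [OkA, olen, h1, ← e]
    · simpa [orbX, orbR, h1] using rootClosure_mono (fun i _ hi => ⟨hi.1, by simp [orbR, h1, hi.2]⟩) ha
  have hs : P.rho r ∈ orbR P r := by simp only [orbR, if_neg h1]; split_ifs <;> simp
  have hb1 := S.ch_rho (hind r hr) (hind _ hs) hLρ' hfix ha
  obtain ⟨h2ind, hrest'⟩ := hrest.resolve_left (by simp only [orbR, if_neg h1]; split_ifs <;> simp)
  set L1 := L.filter fun i => !Nat.beq i r with hL1
  have m1 : (xU D r a)⁻¹ * g ∈ rootClosure D K (· ∈ L1) :=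
    rootClosure_mono (fun i _ hi => mem_filter_ne.2 hi) ha
  obtain ⟨b, hb'⟩ := exists_ch S.tab S.hC h2ind m1
  have toL : ∀ {x : GL D.Idx K} {c : K}, IsCh D L1 (P.rho r) x c → IsCh D L (P.rho r) x c :=
    fun hx => rootClosure_mono (fun i _ hi => ⟨(mem_filter_ne.1 hi.1).1, hi.2⟩) hx
  have hbb : b = P.coef f r a := by
    have := (IsCh.gen S.tab S.hC (hind _ hs) (pos_of_ind S.tab S.hC (hind r hr)).1 a).mul S.tab
      S.hC (hind _ hs) (toL hb')
    rw [mul_inv_cancel_left, if_neg (Ne.symm h1), zero_add] at this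
    exact this.unique S.tab S.hC (hind _ hs) hb1
  subst hbb
  by_cases h2 : P.rho (P.rho r) = r
  · have hb2 := S.ch_rho (hind _ hs) (by rw [h2]; exact hind r hr) hLρ' hfix hb1
    rw [h2] at hb2
    refine ⟨?_, ?_⟩
    · have e := ha.unique S.tab S.hC (hind r hr) hb2
      simp only [orbitB, Bool.and_eq_true] at ho
      have he := ho.2
      rw [show Nat.beq (P.rho r) r = false from Bool.eq_false_iff.2 fun e => h1
          (Nat.eq_of_beq_eq_true e), cond_false,
        show Nat.beq (P.rho (P.rho r)) r = true by rw [h2]; simp, cond_true, beq_iff_eq] at he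
      rw [S.coef_eq, S.coef_eq, map_mul, map_intCast, ← mul_assoc, ← Int.cast_mul, mul_comm
        (P.eps _), he, Int.cast_one, one_mul] at e
      simp [OkA, olen, h1, h2, Function.iterate_succ, ← e]
    · have := rootClosure_mono (Q := fun i => i ∈ L ∧ i ∉ orbR P r) (fun i _ hi =>
        ⟨(mem_filter_ne.1 hi.1).1, by simp [orbR, h1, h2, (mem_filter_ne.1 hi.1).2, hi.2]⟩) hb'
      simpa [orbX, h1, h2, mul_assoc] using this
  have ht : P.rho (P.rho r) ∈ orbR P r := by simp [orbR, h1, h2]
  obtain h3ind := hrest'.resolve_left (by simp [orbR, h1, h2])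
  set L2 := L1.filter fun i => !Nat.beq i (P.rho r) with hL2
  have hb2 := S.ch_rho (hind _ hs) (hind _ ht) hLρ' hfix hb1
  have m2 : (xU D (P.rho r) (P.coef f r a))⁻¹ * ((xU D r a)⁻¹ * g) ∈ rootClosure D K (· ∈ L2) :=
    rootClosure_mono (fun i _ hi => mem_filter_ne.2 hi) hb'
  obtain ⟨c, hc⟩ := exists_ch S.tab S.hC h3ind m2
  have toL2 : ∀ {x : GL D.Idx K} {e : K}, IsCh D L2 (P.rho (P.rho r)) x e →
      IsCh D L (P.rho (P.rho r)) x e := fun hx => rootClosure_mono
    (fun i _ hi => ⟨(mem_filter_ne.1 (mem_filter_ne.1 hi.1).1).1, hi.2⟩) hx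
  have hrL := (pos_of_ind S.tab S.hC (hind r hr)).1
  have hsL := (pos_of_ind S.tab S.hC (hind _ hs)).1
  have hcc : c = P.coef f (P.rho r) (P.coef f r a) := by
    have h4 := (IsCh.gen S.tab S.hC (hind _ ht) hrL a).mul S.tab S.hC (hind _ ht)
      ((IsCh.gen S.tab S.hC (hind _ ht) hsL (P.coef f r a)).mul S.tab S.hC (hind _ ht) (toL2 hc))
    rw [mul_inv_cancel_left, mul_inv_cancel_left, if_neg (Ne.symm h2), if_neg (fun e =>
      h1 (S.sys.sig.ok.rho_inj r (hb r hr).2 _ (hb _ hs).2 e).symm), zero_add, zero_add] at h4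
    exact h4.unique S.tab S.hC (hind _ ht) hb2
  subst hcc
  simp only [orbitB, Bool.and_eq_true] at ho
  have he := ho.2
  rw [show Nat.beq (P.rho r) r = false from Bool.eq_false_iff.2 fun e => h1
      (Nat.eq_of_beq_eq_true e), cond_false,
    show Nat.beq (P.rho (P.rho r)) r = false from Bool.eq_false_iff.2 fun e => h2
      (Nat.eq_of_beq_eq_true e), cond_false, Bool.and_eq_true, Nat.beq_eq, beq_iff_eq] at he
  refine ⟨?_, ?_⟩
  · have hb3 := S.ch_rho (hind _ ht) (by rw [he.1]; exact hind r hr) hLρ' hfix hb2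
    rw [he.1] at hb3
    have e := ha.unique S.tab S.hC (hind r hr) hb3
    simp only [S.coef_eq, map_mul, map_intCast, ← mul_assoc, ← Int.cast_mul] at e
    rw [show P.eps (P.rho (P.rho r)) * P.eps (P.rho r) * P.eps r =
      P.eps r * P.eps (P.rho r) * P.eps (P.rho (P.rho r)) by ring, he.2, Int.cast_one, one_mul] at e
    simp [OkA, olen, h1, h2, Function.iterate_succ, ← e]
  · have := rootClosure_mono (Q := fun i => i ∈ L ∧ i ∉ orbR P r) (fun i _ hi => by
      obtain ⟨h5, h6⟩ := mem_filter_ne.1 hi.1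
      obtain ⟨h7, h8⟩ := mem_filter_ne.1 h5
      exact ⟨h7, by simp [orbR, h1, h2, h6, h8, hi.2]⟩) hc
    simpa [orbX, h1, h2, mul_assoc] using this

/-- An orbit element with rational coordinate is rational, in the subgroup of rational points. -/
theorem Setting.orbX_rat {r : ℕ} (h : orbitB T P r = true) {a : K} (ha : f a = a) :
    orbX D P f r a ∈ G ∧ gMap D f (orbX D P f r a) = orbX D P f r a :=
  ⟨S.orbX_mem h (Function.iterate_fixed ha _), S.orbX_fixed h ha⟩

/-- The orbit words are rational and permute the root elements up to a sign. -/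
theorem Setting.exists_word (ws : List ℕ) (hws : ws.all (fun o => Nat.blt o spec.length) = true)
    (hP : chkOrbs T P spec = true) :
    ∃ g ∈ G, gMap D f g = g ∧ g ∈ D.monomialSubgroup K ∧ ∀ s < D.nroots,
      imgW T spec ws s < D.nroots ∧ ∃ c : K, f c = c ∧ c * c = 1 ∧
        ∀ t : K, g * xU D s t * g⁻¹ = xU D (imgW T spec ws s) (c * t) := by
  have hF := S.tab.facts
  have hn : ∀ l : List (Fin D.rank), ∀ s < D.nroots,
      LacedInvol.actT T (l.map Fin.val) s < D.nroots ∧ ∃ c : K, f c = c ∧ c * c = 1 ∧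
      ∀ t : K, nW D K l * xU D s t * (nW D K l)⁻¹ =
        xU D (LacedInvol.actT T (l.map Fin.val) s) (c * t) := by
    intro l
    induction l with
    | nil => intro s hs; exact ⟨hs, 1, map_one f, one_mul 1, fun t => by simp [nW, LacedInvol.actT]⟩
    | cons i l ih =>
      intro s hs
      obtain ⟨h1, c, hc1, hc2, hc⟩ := ih s hs
      obtain ⟨η, e1, -, e3⟩ := hF.exists_eta (F := K) i.isLt
      have hk := (reflect_eq S.tab.arr S.tab.chain i.isLt h1 : D.reflectRoot i.val _ = _)
      refine ⟨?_, (η (LacedInvol.actT T (l.map Fin.val) s) : K) * c, ?_, ?_, fun t => ?_⟩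
      · show T.refl i.val (LacedInvol.actT T (l.map Fin.val) s) < D.nroots
        rw [← hk]; exact hF.refl_lt _ i.isLt _ h1
      · rw [map_mul, map_intCast, hc1]
      · rcases e1 _ h1 with e | e <;> simp [e, hc2]
      · rw [show nW D K (i :: l) = nS D K i * nW D K l by simp [nW],
          show nS D K i * nW D K l * xU D s t * (nS D K i * nW D K l)⁻¹ =
            nS D K i * (nW D K l * xU D s t * (nW D K l)⁻¹) * (nS D K i)⁻¹ by group, hc, nS,
          e3 _ h1, mul_inv_cancel_right]
        show xU D (D.reflectRoot _ _) _ =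
          xU D (T.refl i.val (LacedInvol.actT T (l.map Fin.val) s)) _
        rw [← hk, mul_assoc]
  simp only [chkOrbs, Bool.and_eq_true, List.all_eq_true] at hP
  simp only [List.all_eq_true, Nat.blt_eq] at hws
  have key : ∀ ws : List ℕ, (∀ o ∈ ws, o < spec.length) → ∃ l : List (Fin D.rank),
      l.map Fin.val = ws.flatMap (fun o => (spec.getD o ([], [])).2) ∧ nW D K l ∈ G := by
    intro ws hw
    induction ws with
    | nil => exact ⟨[], rfl, by simp [nW]⟩
    | cons o ws ih =>
      obtain ⟨l, hl, hlG⟩ := ih fun i hi => hw i (List.mem_cons_of_mem _ hi)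
      have ho := hw o (by simp)
      refine ⟨(mkOrbs D spec ⟨o, ho⟩).word ++ l, ?_, ?_⟩
      · rw [List.map_append, hl, List.flatMap_cons]
        congr 1
        rw [List.getD_eq_getElem _ _ ho]
        refine map_filterMap_toFin fun i hi => ?_
        have := hP.1.1 _ (List.getElem_mem ho)
        simp only [chkOrb, Bool.and_eq_true, List.all_eq_true] at this
        rw [rank_eq S.tab.arr]
        simpa using (this.1.1.2 i hi).1
      · rw [nW, List.map_append, List.prod_append]
        exact Subgroup.mul_mem _ (S.nW_mem ⟨o, ho⟩) hlG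
  obtain ⟨l, hl, hlG⟩ := key ws hws
  refine ⟨_, hlG, gMap_nW hF f l, hF.nW_mem l, fun s hs => ?_⟩
  have := hn l s hs
  rwa [hl] at this

end CfsgLib.Chev.SubfieldMax
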